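import Mathlib

/-!
Norms of matrices of finite order in characteristic two.
-/

set_option autoImplicit false

namespace Cfsg.Lib.TriSpec

open Matrix Module

variable {K : Type*} [Field K] [CharP K 2] {ι : Type*} [Fintype ι] [DecidableEq ι]

/-- The sum of the powers below a bound. -/
def nrm {R : Type*} [Semiring R] (g : R) (m : ℕ) : R := ∑ i ∈ Finset.range m, g ^ i

theorem two_eq : (2 : Matrix ι ι K) = 0 := by
  rw [show (2 : Matrix ι ι K) = (2 : K) • 1 by rw [← one_add_one_eq_two, ← one_add_one_eq_two, add_smul, one_smul],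
    CharTwo.two_eq_zero, zero_smul]

theorem add_self (A : Matrix ι ι K) : A + A = 0 := by rw [← two_mul, two_eq, zero_mul]

theorem odd_smul {m : ℕ} (hm : Odd m) (A : Matrix ι ι K) : m • A = A := by
  obtain ⟨k, rfl⟩ := hm
  rw [add_smul, one_smul, two_mul, add_smul, add_self, zero_add]

theorem add_one_pow_two (u : Matrix ι ι K) : ∀ a : ℕ, (u + 1) ^ 2 ^ a = u ^ 2 ^ a + 1
  | 0 => by simp
  | a + 1 => by
    rw [pow_succ, pow_mul, pow_mul, add_one_pow_two u a, sq, sq, add_mul, mul_add, one_mul, mul_one]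
    have := add_self (u ^ 2 ^ a)
    rw [add_assoc, ← add_assoc (u ^ 2 ^ a) (u ^ 2 ^ a), this, zero_add]

theorem nrm_two_pow (u : Matrix ι ι K) : ∀ a : ℕ, nrm u (2 ^ a) = (u + 1) ^ (2 ^ a - 1)
  | 0 => by simp [nrm]
  | a + 1 => by
    have h : nrm u (2 ^ (a + 1)) = (u ^ 2 ^ a + 1) * nrm u (2 ^ a) := by
      rw [nrm, nrm, pow_succ, mul_two, Finset.sum_range_add, add_mul, one_mul, Finset.mul_sum, add_comm]
      simp only [pow_add]
    rw [h, nrm_two_pow u a, ← add_one_pow_two, ← pow_add]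
    congr 1
    have := Nat.one_le_two_pow (n := a)
    rw [pow_succ]
    omega

theorem nrm_mul_self {x : Matrix ι ι K} {m : ℕ} (h : x ^ m = 1) : nrm x m * x = nrm x m := by
  have hg : nrm x m * (x - 1) = 0 := by
    rw [nrm, geom_sum_mul, h, sub_self]
  rwa [mul_sub, mul_one, sub_eq_zero] at hg

theorem nrm_mul_pow {x : Matrix ι ι K} {m : ℕ} (h : x ^ m = 1) : ∀ k : ℕ, nrm x m * x ^ k = nrm x m
  | 0 => by simp
  | k + 1 => by rw [pow_succ, ← mul_assoc, nrm_mul_pow h k, nrm_mul_self h]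

theorem nrm_mul_nrm_pow {x : Matrix ι ι K} {m : ℕ} (h : x ^ m = 1) (k n : ℕ) (hn : Odd n) :
    nrm x m * nrm (x ^ k) n = nrm x m := by
  rw [show nrm (x ^ k) n = ∑ i ∈ Finset.range n, (x ^ k) ^ i from rfl, Finset.mul_sum,
    Finset.sum_congr rfl fun i _ => by rw [← pow_mul, nrm_mul_pow h], Finset.sum_const, Finset.card_range,
    odd_smul hn]

theorem nrm_eq_zero_of_pow {x : Matrix ι ι K} {m : ℕ} (h : x ^ m = 1) {k n : ℕ} (hn : Odd n)
    (h0 : nrm (x ^ k) n = 0) : nrm x m = 0 := by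
  rw [← nrm_mul_nrm_pow h k n hn, h0, mul_zero]

theorem nrm_idem {x : Matrix ι ι K} {m : ℕ} (h : x ^ m = 1) (hm : Odd m) : nrm x m * nrm x m = nrm x m := by
  conv_lhs => rw [show nrm x m * nrm x m = nrm x m * nrm (x ^ 1) m by rw [pow_one]]
  rw [nrm_mul_nrm_pow h 1 m hm]

theorem commute_nrm {x y : Matrix ι ι K} (h : Commute y x) (m : ℕ) : Commute y (nrm x m) :=
  Commute.sum_right _ _ _ fun i _ => h.pow_right i

theorem nrm_mul_dec (g : Matrix ι ι K) (n m : ℕ) : nrm g (m * n) = nrm (g ^ n) m * nrm g n := by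
  induction m with
  | zero => simp [nrm]
  | succ m ih =>
    rw [nrm, Nat.succ_mul, Finset.sum_range_add]
    change nrm g (m * n) + ∑ i ∈ Finset.range n, g ^ (m * n + i) = nrm (g ^ n) (m + 1) * nrm g n
    rw [ih, show nrm (g ^ n) (m + 1) = nrm (g ^ n) m + (g ^ n) ^ m from Finset.sum_range_succ _ _, add_mul,
      show (g ^ n) ^ m * nrm g n = ∑ i ∈ Finset.range n, (g ^ n) ^ m * g ^ i from Finset.mul_sum _ _ _]
    congr 1
    exact Finset.sum_congr rfl fun i _ => by rw [pow_add, mul_comm m n, pow_mul]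

/-- The norm splits as the odd part times a power of the two-part plus one. -/
theorem nrm_split {g : Matrix ι ι K} {m a : ℕ} (hm : Odd m) (h : g ^ (m * 2 ^ a) = 1) :
    ∃ c : ℕ, (g ^ (c * m)) ^ 2 ^ a = 1 ∧
      nrm g (m * 2 ^ a) = nrm (g ^ 2 ^ a) m * (g ^ (c * m) + 1) ^ (2 ^ a - 1) := by
  have hx : (g ^ 2 ^ a) ^ m = 1 := by rw [← pow_mul, mul_comm, h]
  obtain ⟨c, hc⟩ : ∃ c : ℕ, c * m % 2 ^ a = 1 % 2 ^ a := by
    have hcop : Nat.Coprime m (2 ^ a) := Nat.Coprime.pow_right a (Nat.coprime_two_right.2 hm)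
    refine ⟨m ^ (Nat.totient (2 ^ a) - 1), ?_⟩
    rw [← pow_succ, Nat.sub_add_cancel (Nat.totient_pos.2 (by positivity))]
    exact Nat.ModEq.pow_totient hcop
  refine ⟨c, by rw [← pow_mul, mul_assoc, mul_comm c, pow_mul, h, one_pow], ?_⟩
  rw [nrm_mul_dec, ← nrm_two_pow (g ^ (c * m)) a, nrm.eq_def g, nrm.eq_def (g ^ (c * m)), Finset.mul_sum,
    Finset.mul_sum]
  refine Finset.sum_congr rfl fun i _ => ?_
  have hmod : ∀ j k : ℕ, j % 2 ^ a = k % 2 ^ a → nrm (g ^ 2 ^ a) m * g ^ j = nrm (g ^ 2 ^ a) m * g ^ k := by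
    intro j k e
    have hstep : ∀ j : ℕ, nrm (g ^ 2 ^ a) m * g ^ j = nrm (g ^ 2 ^ a) m * g ^ (j % 2 ^ a) := fun j => by
      conv_lhs => rw [← Nat.div_add_mod j (2 ^ a), pow_add, pow_mul, ← mul_assoc, nrm_mul_pow hx]
    rw [hstep j, hstep k, e]
  rw [← pow_mul]
  refine hmod _ _ ?_
  conv_rhs => rw [Nat.mul_mod, hc, ← Nat.mul_mod, one_mul]

/-! ### Ranks -/

/-- The range as a subspace. -/
noncomputable def rg (A : Matrix ι ι K) : Submodule K (ι → K) := LinearMap.range A.mulVecLin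

theorem rg_mul (A B : Matrix ι ι K) : rg (A * B) = (rg B).map A.mulVecLin := by
  rw [rg, rg, Matrix.mulVecLin_mul, LinearMap.range_comp]

theorem eq_zero_of_rg {A : Matrix ι ι K} (h : rg A = ⊥) : A = 0 := by
  refine Matrix.ext_of_mulVec_single fun i => ?_
  have : A *ᵥ Pi.single i 1 ∈ rg A := ⟨_, rfl⟩
  rw [h, Submodule.mem_bot] at this
  rw [this, zero_mulVec]

theorem rg_le_mul (A B : Matrix ι ι K) : rg (A * B) ≤ rg A := by
  rw [rg, rg, Matrix.mulVecLin_mul]; exact LinearMap.range_comp_le_range _ _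

/-- A nilpotent endomorphism moves an invariant nonzero subspace to a smaller one. -/
theorem map_lt {D : Matrix ι ι K} {N : ℕ} (hD : D ^ N = 0) {S : Submodule K (ι → K)}
    (hS : S.map D.mulVecLin ≤ S) (hne : S ≠ ⊥) : S.map D.mulVecLin < S := by
  refine lt_of_le_of_ne hS fun e => hne ?_
  have h : ∀ n : ℕ, S.map (D ^ n).mulVecLin = S := by
    intro n
    induction n with
    | zero => simp [Submodule.map_id]
    | succ n ih => rw [pow_succ', Matrix.mulVecLin_mul, Submodule.map_comp, ih, e]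
  rw [← h N, hD, Matrix.mulVecLin_zero, Submodule.map_zero]

theorem finrank_pow_le {D e : Matrix ι ι K} {N : ℕ} (hD : D ^ N = 0) (hc : Commute D e) (k : ℕ)
    (hk : finrank K (rg e) ≤ k) : ∀ i : ℕ, finrank K (rg (D ^ i * e)) ≤ k - i
  | 0 => by rw [pow_zero, one_mul, Nat.sub_zero]; exact hk
  | i + 1 => by
    have ih := finrank_pow_le hD hc k hk i
    have hstep : rg (D ^ (i + 1) * e) = (rg (D ^ i * e)).map D.mulVecLin := by
      rw [← rg_mul, pow_succ', mul_assoc]
    by_cases h0 : rg (D ^ i * e) = ⊥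
    · rw [hstep, h0, Submodule.map_bot, finrank_bot]; exact Nat.zero_le _
    · have hinv : (rg (D ^ i * e)).map D.mulVecLin ≤ rg (D ^ i * e) := by
        rw [← hstep, show D ^ (i + 1) * e = (D ^ i * e) * D by
          rw [pow_succ, mul_assoc, mul_assoc, hc.eq]]
        exact rg_le_mul _ _
      have := Submodule.finrank_lt_finrank_of_lt (map_lt hD hinv h0)
      rw [hstep]
      omega

theorem pow_mul_eq_zero {D e : Matrix ι ι K} {N : ℕ} (hD : D ^ N = 0) (hc : Commute D e) {k i : ℕ}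
    (hk : finrank K (rg e) ≤ k) (hi : k ≤ i) : D ^ i * e = 0 :=
  eq_zero_of_rg (Submodule.finrank_eq_zero.1 (by
    have := finrank_pow_le hD hc k hk i
    omega))

/-- A factorization bounds the rank. -/
theorem finrank_rg_le {k : ℕ} (A : Matrix ι (Fin k) K) (B : Matrix (Fin k) ι K) :
    finrank K (rg (A * B)) ≤ k := by
  rw [rg, Matrix.mulVecLin_mul]
  refine (Submodule.finrank_mono (LinearMap.range_comp_le_range _ _)).trans ?_
  exact (LinearMap.finrank_range_le _).trans (by simp)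

/-- The case of a commuting element of order three. -/
theorem finrank_cube_le {y D e : Matrix ι ι K} {N : ℕ} (hy : y ^ 3 = 1) (he : e = nrm y 3)
    (hK : ∀ c : K, c ^ 3 = 1 → c = 1) (hD : D ^ N = 0) (hc : Commute y D)
    (h1 : finrank K (rg e) ≤ 4) (h2 : finrank K (rg (1 + e)) ≤ 4) :
    finrank K (rg (D ^ 3)) ≤ 1 := by
  have hce : Commute D e := he ▸ commute_nrm hc.symm 3
  have hcz : Commute D (1 + e) := (Commute.one_right _).add_right hce
  -- no invariant lines off the fixed space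
  have hfree : ∀ v : ι → K, ∀ c : K, e *ᵥ v = 0 → y *ᵥ v = c • v → v = 0 := by
    intro v c hev hyv
    have hp : ∀ i : ℕ, (y ^ i) *ᵥ v = c ^ i • v := fun i => by
      induction i with
      | zero => simp
      | succ i ih => rw [pow_succ', ← Matrix.mulVec_mulVec, ih, Matrix.mulVec_smul, hyv, smul_smul, pow_succ]
    by_contra hv
    have h3 : c = 1 := hK c (by
      have := hp 3
      rw [hy, Matrix.one_mulVec] at this
      exact (smul_left_injective K hv (by simpa using this.symm)))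
    rw [he, nrm, Matrix.sum_mulVec, Finset.sum_congr rfl fun i _ => by rw [hp i, h3, one_pow, one_smul],
      Finset.sum_const, Finset.card_range] at hev
    rw [show (3 : ℕ) = 2 + 1 from rfl, add_smul, one_smul, two_smul] at hev
    exact hv (by
      have h2' : v + v = 0 := by rw [← two_smul K, CharTwo.two_eq_zero, zero_smul]
      rwa [h2', zero_add] at hev)
  set T := rg (1 + e) with hT
  have hTe : ∀ v ∈ T, e *ᵥ v = 0 := by
    rintro v ⟨w, rfl⟩
    show e *ᵥ ((1 + e) *ᵥ w) = 0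
    rw [Matrix.mulVec_mulVec, mul_add, mul_one, he, nrm_idem hy ⟨1, rfl⟩, add_self, Matrix.zero_mulVec]
  have hTy : ∀ v ∈ T, y *ᵥ v ∈ T := by
    rintro v ⟨w, rfl⟩
    refine ⟨y *ᵥ w, ?_⟩
    show (1 + e) *ᵥ (y *ᵥ w) = y *ᵥ ((1 + e) *ᵥ w)
    rw [Matrix.mulVec_mulVec, Matrix.mulVec_mulVec,
      ((Commute.one_right y).add_right (he ▸ commute_nrm (Commute.refl y) 3)).eq]
  -- no invariant subspace of dimension one
  have hline : ∀ S : Submodule K (ι → K), S ≤ T → (∀ v ∈ S, y *ᵥ v ∈ S) → finrank K S ≠ 1 := by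
    intro S hST hSy h
    obtain ⟨v, hv0, hv⟩ := finrank_eq_one_iff'.1 h
    obtain ⟨c, hcv⟩ := hv ⟨y *ᵥ (v : ι → K), hSy _ v.2⟩
    exact hv0 (Subtype.ext (hfree _ c (hTe _ (hST v.2)) (congrArg Subtype.val hcv).symm))
  have hD1 : finrank K (rg (D ^ 1 * (1 + e))) ≤ 2 := by
    have hle := finrank_pow_le hD hcz 4 h2 1
    by_contra hne
    have h3 : finrank K (rg (D ^ 1 * (1 + e))) = 3 := by omega
    have e1 : rg (D ^ 1 * (1 + e)) = T.map D.mulVecLin := by rw [pow_one, rg_mul]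
    rw [e1] at h3
    have hsum := LinearMap.finrank_range_add_finrank_ker (D.mulVecLin.domRestrict T)
    rw [LinearMap.range_domRestrict, h3] at hsum
    have hker : finrank K (D.mulVecLin.domRestrict T).ker = finrank K ↥(LinearMap.ker D.mulVecLin ⊓ T) := by
      rw [LinearMap.ker_domRestrict, ← Submodule.finrank_map_subtype_eq, Submodule.map_comap_subtype, inf_comm]
    have hle2 : finrank K T ≤ 4 := h2
    have hne2 := hline (LinearMap.ker D.mulVecLin ⊓ T) inf_le_right fun v hv => ⟨by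
      show D *ᵥ (y *ᵥ v) = 0
      rw [Matrix.mulVec_mulVec, ← hc.eq, ← Matrix.mulVec_mulVec, show D *ᵥ v = 0 from hv.1, Matrix.mulVec_zero],
      hTy v hv.2⟩
    have hlt : finrank K (T.map D.mulVecLin) < finrank K T := by
      refine Submodule.finrank_lt_finrank_of_lt (map_lt hD ?_ (fun hb => ?_))
      · rw [← rg_mul, hcz.eq]; exact rg_le_mul _ _
      · rw [hb, Submodule.map_bot, finrank_bot] at h3; omega
    omega
  have hD2 : rg (D ^ 2 * (1 + e)) = ⊥ := by
    have hb : finrank K (rg (D ^ 2 * (1 + e))) ≤ 1 := by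
      by_cases h0 : rg (D ^ 1 * (1 + e)) = ⊥
      · rw [show D ^ 2 * (1 + e) = D * (D ^ 1 * (1 + e)) by rw [← mul_assoc, ← pow_succ'], rg_mul, h0,
          Submodule.map_bot, finrank_bot]
        exact Nat.zero_le _
      · have := Submodule.finrank_lt_finrank_of_lt (map_lt hD (S := rg (D ^ 1 * (1 + e))) (by
          rw [← rg_mul, pow_one, hcz.eq, ← mul_assoc, hcz.eq]
          exact rg_le_mul _ _) h0)
        rw [show D ^ 2 * (1 + e) = D * (D ^ 1 * (1 + e)) by rw [← mul_assoc, ← pow_succ'], rg_mul]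
        omega
    refine Submodule.finrank_eq_zero.1 ?_
    have hne := hline (rg (D ^ 2 * (1 + e))) (by rw [((hcz.pow_left 2)).eq]; exact rg_le_mul _ _) (by
      rintro v ⟨w, rfl⟩
      refine ⟨y *ᵥ w, ?_⟩
      show (D ^ 2 * (1 + e)) *ᵥ (y *ᵥ w) = y *ᵥ ((D ^ 2 * (1 + e)) *ᵥ w)
      rw [Matrix.mulVec_mulVec, Matrix.mulVec_mulVec, ((hc.pow_right 2).mul_right
        ((Commute.one_right y).add_right (he ▸ commute_nrm (Commute.refl y) 3))).eq])
    omega
  have hz : D ^ 3 * (1 + e) = 0 := by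
    rw [pow_succ', mul_assoc, eq_zero_of_rg hD2, mul_zero]
  have hD3 : D ^ 3 = D ^ 3 * e := by
    rw [mul_add, mul_one] at hz
    calc D ^ 3 = D ^ 3 + (D ^ 3 * e + D ^ 3 * e) := by rw [add_self, add_zero]
      _ = D ^ 3 * e := by rw [← add_assoc, hz, zero_add]
  rw [hD3]
  exact finrank_pow_le hD hce 4 h1 3

/-- Matrices of rank one have vanishing minors. -/
theorem minor_eq {A : Matrix ι ι K} (h : finrank K (rg A) ≤ 1) (i j k l : ι) :
    A i k * A j l = A i l * A j k := by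
  obtain ⟨v, hv⟩ := finrank_le_one_iff.1 h
  have hcol : ∀ k, ∃ c : K, ∀ i, A i k = c * (v : ι → K) i := by
    intro k
    obtain ⟨c, hc⟩ := hv ⟨A *ᵥ Pi.single k 1, _, rfl⟩
    refine ⟨c, fun i => ?_⟩
    have := congrFun (congrArg Subtype.val hc) i
    simpa [Matrix.mulVec_single] using this.symm
  obtain ⟨a, ha⟩ := hcol k
  obtain ⟨b, hb⟩ := hcol l
  rw [ha i, hb j, hb i, ha j]
  ring

/-- An element of order three commuting with a semisimple element cyclic on its moved space. -/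
theorem fix_of_cyclic {x y z : Matrix ι ι K} {m : ℕ} (hx : x ^ 8 = x) (hK : ∀ c : K, c ^ 8 = c)
    (hy : y ^ 3 = 1) (hc : Commute y x) (hz : Commute y z) (v : ι → K)
    (hcyc : ∀ w : ι → K, z *ᵥ w ∈ Submodule.span K (Set.range fun i : Fin m => (x ^ (i : ℕ) * z) *ᵥ v)) :
    y * z = z := by
  set T := fun i : Fin m => (x ^ (i : ℕ) * z) *ᵥ v with hT
  obtain ⟨c, hcv⟩ := Submodule.mem_span_range_iff_exists_fun K |>.1 (hcyc (y *ᵥ v))
  let p : Polynomial K := ∑ i : Fin m, Polynomial.C (c i) * Polynomial.X ^ (i : ℕ)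
  have hp8 : Polynomial.aeval x (p ^ 8) = Polynomial.aeval x p := by
    have e : p ^ 8 = ∑ i : Fin m, (Polynomial.C (c i) * Polynomial.X ^ (i : ℕ)) ^ 8 := by
      have h := sum_pow_char_pow (R := Polynomial K) 2 3 Finset.univ
        (fun i : Fin m => Polynomial.C (c i) * Polynomial.X ^ (i : ℕ))
      simpa using h
    rw [e, map_sum, map_sum]
    refine Finset.sum_congr rfl fun i _ => ?_
    rw [mul_pow, ← map_pow, hK, ← pow_mul, mul_comm (i : ℕ) 8, pow_mul, map_mul, map_mul, map_pow, map_pow,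
      map_pow, Polynomial.aeval_X, hx]
  set a := Polynomial.aeval x p with ha
  have hza : y *ᵥ (z *ᵥ v) = a *ᵥ (z *ᵥ v) := by
    rw [Matrix.mulVec_mulVec, hz.eq, ← Matrix.mulVec_mulVec, ← hcv, ha, map_sum, Matrix.sum_mulVec]
    refine Finset.sum_congr rfl fun i _ => ?_
    rw [map_mul, map_pow, Polynomial.aeval_X, Polynomial.aeval_C, ← Algebra.smul_def, Matrix.smul_mulVec,
      Matrix.mulVec_mulVec]
  have hya : Commute y a := by
    rw [ha, map_sum]
    refine Commute.sum_right _ _ _ fun i _ => ?_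
    rw [map_mul, map_pow, Polynomial.aeval_X, Polynomial.aeval_C]
    exact (show Commute y (algebraMap K (Matrix ι ι K) (c i)) from (Algebra.commutes (c i) y).symm).mul_right
      (hc.pow_right _)
  have hk : ∀ k : ℕ, (y ^ k) *ᵥ (z *ᵥ v) = (a ^ k) *ᵥ (z *ᵥ v) := fun k => by
    induction k with
    | zero => rfl
    | succ k ih =>
      rw [pow_succ', ← Matrix.mulVec_mulVec, ih, Matrix.mulVec_mulVec, (hya.pow_right k).eq,
        ← Matrix.mulVec_mulVec, hza, Matrix.mulVec_mulVec, ← pow_succ]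
  have hfix : y *ᵥ (z *ᵥ v) = z *ᵥ v := by
    have h8 : (y ^ 8) *ᵥ (z *ᵥ v) = y *ᵥ (z *ᵥ v) := by
      rw [hk 8, hza, ha, ← map_pow, hp8]
    rw [show y ^ 8 = y * y by rw [show 8 = 3 * 2 + 2 from rfl, pow_add, pow_mul, hy, one_pow, one_mul, sq]] at h8
    generalize z *ᵥ v = w at h8 ⊢
    have h9 := congrArg (fun u => (y * y) *ᵥ u) h8
    simp only [Matrix.mulVec_mulVec] at h9
    have e4 : y * y * (y * y) = y := by
      rw [← sq y, ← pow_add, show 2 + 2 = 3 + 1 from rfl, pow_add, hy, one_mul, pow_one]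
    have e3 : y * y * y = 1 := by rw [← sq y, ← pow_succ, hy]
    rw [e4, e3, Matrix.one_mulVec] at h9
    exact h9
  refine Matrix.ext_of_mulVec_single fun i => ?_
  rw [← Matrix.mulVec_mulVec]
  obtain ⟨d, hd⟩ := Submodule.mem_span_range_iff_exists_fun K |>.1 (hcyc (Pi.single i 1))
  rw [← hd, Matrix.mulVec_sum]
  refine Finset.sum_congr rfl fun j _ => ?_
  rw [Matrix.mulVec_smul, Matrix.mulVec_mulVec, ← mul_assoc, (hc.pow_right _).eq, mul_assoc,
    ← Matrix.mulVec_mulVec, ← Matrix.mulVec_mulVec, hfix, Matrix.mulVec_mulVec]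

end Cfsg.Lib.TriSpec
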