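import Cfsg.Agent.Lib.TriSpec.Defs
import Cfsg.Agent.Lib.TriSpec.Algebra

/-!
Soundness of the checks on packed matrices.
-/

set_option autoImplicit false
set_option maxRecDepth 100000

namespace Cfsg.Lib.TriSpec

open Cfsg.Lib.Chev.D4Orth Matrix Module

theorem list_getLastD (l : List ℕ) : l.getLastD 0 = l.getD (l.length - 1) 0 := by
  rcases List.eq_nil_or_concat l with rfl | ⟨L, a, rfl⟩
  · rfl
  · simp [List.getD_eq_getElem?_getD]

theorem sumOn_congr_filter (f : ℕ → ℕ) (l : List ℕ) (p : ℕ → Bool) (h : ∀ k ∈ l, p k = false → f k = 0) :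
    sumOn (l.filter p) f = sumOn l f := by
  induction l with
  | nil => rfl
  | cons a t ih =>
    have ih' := ih fun k hk => h k (List.mem_cons_of_mem _ hk)
    cases hp : p a
    · simp only [List.filter_cons, hp, Bool.false_eq_true, if_false, ih']
      show _ = addE (f a) (sumOn t f)
      rw [h a List.mem_cons_self hp]
      exact (Nat.zero_xor _).symm
    · simp only [List.filter_cons, hp, if_true]
      show addE (f a) (sumOn _ f) = addE (f a) (sumOn t f)
      rw [ih']

theorem sum8_eq_sumOn (f : ℕ → ℕ) : sum8 f = sumOn (List.range 8) f := by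
  simp only [sum8, sumOn, addE, show List.range 8 = [0, 1, 2, 3, 4, 5, 6, 7] from rfl, List.foldr_cons, List.foldr_nil]
  show ((f 0 ^^^ f 1) ^^^ (f 2 ^^^ f 3)) ^^^ ((f 4 ^^^ f 5) ^^^ (f 6 ^^^ f 7)) =
    f 0 ^^^ (f 1 ^^^ (f 2 ^^^ (f 3 ^^^ (f 4 ^^^ (f 5 ^^^ (f 6 ^^^ (f 7 ^^^ 0)))))))
  simp [Nat.xor_assoc]

theorem sum8_eq_of_zero (f : ℕ → ℕ) (l : List ℕ) (hl : l = (List.range 8).filter fun k => l.contains k)
    (h : ∀ k < 8, k ∉ l → f k = 0) : sum8 f = sumOn l f := by
  rw [sum8_eq_sumOn, hl, sumOn_congr_filter]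
  intro k hk hp
  exact h k (List.mem_range.1 hk) fun hm => by simp [hm] at hp

theorem tabs_shape : ∀ k : Fin 64,
    openTab.getD (k : ℕ) [] = (List.range 8).filter (fun t => (openTab.getD (k : ℕ) []).contains t) ∧
      closedTab.getD (k : ℕ) [] = (List.range 8).filter (fun t => (closedTab.getD (k : ℕ) []).contains t) := by
  decide +kernel

theorem closed_mem : ∀ p q t : Fin 8, grade p < grade q → ((t : ℕ) = p ∨ grade p < grade t) →
    ((t : ℕ) = q ∨ grade t < grade q) → (t : ℕ) ∈ closedTab.getD (8 * (p : ℕ) + q) [] := by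
  decide +kernel

theorem open_mem : ∀ p q t : Fin 8, grade p < grade t → grade t < grade q →
    (t : ℕ) ∈ openTab.getD (8 * (p : ℕ) + q) [] := by
  decide +kernel

theorem open_shape' : ∀ p q t : Fin 8, (t : ℕ) ∈ openTab.getD (8 * (p : ℕ) + q) [] →
    grade p < grade t ∧ grade t < grade q := by
  decide +kernel

theorem open_shape (p q : Fin 8) (t : ℕ) (ht : t ∈ openTab.getD (8 * (p : ℕ) + q) []) :
    grade p < grade t ∧ grade t < grade q := by
  have h := (tabs_shape ⟨8 * (p : ℕ) + q, by omega⟩).1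
  have h8 : t < 8 := by
    rw [h] at ht
    exact List.mem_range.1 (List.mem_filter.1 ht).1
  exact open_shape' p q ⟨t, h8⟩ ht

theorem sumOn_congr {l : List ℕ} {f g : ℕ → ℕ} (h : ∀ k ∈ l, f k = g k) : sumOn l f = sumOn l g := by
  induction l with
  | nil => rfl
  | cons a t ih =>
    show addE (f a) (sumOn t f) = addE (g a) (sumOn t g)
    rw [h a List.mem_cons_self, ih fun k hk => h k (List.mem_cons_of_mem _ hk)]

theorem gapThree_mem : ∀ p q : Fin 8, grade p + 3 ≤ grade q → ((p : ℕ), (q : ℕ)) ∈ gapThree := by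
  decide +kernel

theorem cubeAt_lt (A p q : ℕ) : cubeAt A p q < 8 := by
  unfold cubeAt
  generalize openTab.getD (8 * p + q) [] = l
  induction l with
  | nil => exact Nat.succ_pos _
  | cons a t ih => exact addE_lt (mulE_lt _ _) ih

theorem mulE_zero_left : ∀ b : Fin 8, mulE 0 b = 0 ∧ mulE b 0 = 0 ∧ mulE 1 b = (b : ℕ) := by decide +kernel

theorem mulE_eq_zero {a b : ℕ} (ha : a < 8) (hb : b < 8) (h : a = 0 ∨ b = 0) : mulE a b = 0 := by
  rcases h with rfl | rfl
  · exact (mulE_zero_left ⟨b, hb⟩).1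
  · exact (mulE_zero_left ⟨a, ha⟩).2.1

/-- The entries of a packed unitriangular matrix. -/
def IsTri (A : ℕ) : Prop := ∀ p < 8, ∀ q < 8, ¬ grade p < grade q → ge A p q = if p = q then 1 else 0

theorem isTri_of_chk {A : ℕ} (h : chkTri A = true) : IsTri A := by
  intro p hp q hq hg
  simp only [chkTri, List.all_eq_true, List.mem_range] at h
  have := h p hp q hq
  by_cases e : p = q
  · subst e; rw [if_pos rfl]; rw [if_pos (by simp)] at this; exact Nat.eq_of_beq_eq_true this
  · rw [if_neg (by simpa using e)] at this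
    rw [if_neg e]
    simp only [Bool.or_eq_true, Nat.blt_eq] at this
    exact Nat.eq_of_beq_eq_true (this.resolve_left hg)

theorem triAt_eq {A B : ℕ} (hA : IsTri A) (hB : IsTri B) {p q : ℕ} (hp : p < 8) (hq : q < 8) :
    triAt A B (8 * p + q) = mulAt A B p q := by
  have e1 : (8 * p + q) / 8 = p := by omega
  have e2 : (8 * p + q) % 8 = q := by omega
  rw [triAt, e1, e2, mulAt]
  by_cases hg : grade p < grade q
  · rw [if_pos (by simpa using hg), sum8_eq_of_zero _ _ (tabs_shape ⟨8 * p + q, by omega⟩).2]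
    intro t ht hm
    refine mulE_eq_zero (ge_lt ..) (ge_lt ..) ?_
    by_contra hne
    push Not at hne
    refine hm (closed_mem ⟨p, hp⟩ ⟨q, hq⟩ ⟨t, ht⟩ hg ?_ ?_)
    · by_contra hc
      push Not at hc
      simp only at hc
      exact hne.1 (by rw [hA p hp t ht (by omega), if_neg (fun e => hc.1 e.symm)])
    · by_contra hc
      push Not at hc
      simp only at hc
      exact hne.2 (by rw [hB t ht q hq (by omega), if_neg hc.1])
  · rw [if_neg (by simpa using hg)]
    by_cases e : p = q
    · subst e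
      rw [if_pos (by simp), sum8_eq_of_zero _ [p] (by interval_cases p <;> decide)]
      · simp only [sumOn, List.foldr_cons, List.foldr_nil, hA p hp p hp hg, hB p hp p hp hg, if_true]
        decide +kernel
      · intro t ht hm
        simp only [List.mem_singleton] at hm
        refine mulE_eq_zero (ge_lt ..) (ge_lt ..) ?_
        by_cases h1 : grade p < grade t
        · exact Or.inr (by rw [hB t ht p hp (by omega), if_neg hm])
        · exact Or.inl (by rw [hA p hp t ht h1, if_neg (Ne.symm hm)])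
    · rw [if_neg (by simpa using e), sum8_eq_of_zero _ [] (by decide)]
      · rfl
      · intro t ht _
        refine mulE_eq_zero (ge_lt ..) (ge_lt ..) ?_
        by_cases h1 : grade p < grade t
        · refine Or.inr ?_
          rw [hB t ht q hq (by omega), if_neg (fun e' : t = q => hg (e' ▸ h1))]
        · by_cases h2 : p = t
          · subst h2; exact Or.inr (by rw [hB p hp q hq hg, if_neg e])
          · exact Or.inl (by rw [hA p hp t ht h1, if_neg h2])

theorem ge_triProd {A B : ℕ} (hA : IsTri A) (hB : IsTri B) {p q : ℕ} (hp : p < 8) (hq : q < 8) :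
    ge (triProd A B) p q = mulAt A B p q := by
  rw [ge, triProd, pack_get _ (by
    intro a ha
    obtain ⟨k, hk, rfl⟩ := List.mem_map.1 ha
    rw [List.mem_range] at hk
    rw [show k = 8 * (k / 8) + k % 8 by omega, triAt_eq hA hB (by omega) (by omega)]
    exact sum8_lt fun _ => mulE_lt _ _) _ (by simp; omega)]
  rw [← triAt_eq hA hB hp hq]
  simp [List.getD_eq_getElem?_getD, List.getElem?_map, List.getElem?_range (show 8 * p + q < 64 by omega)]

variable {K : Type*} [Field K] [CharP K 2] {z : K}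

omit [CharP K 2] in
theorem toM8_congr (X Y : ℕ) (h : ∀ i j : I8, ge X (cd i) (cd j) = ge Y (cd i) (cd j)) :
    toM8 z X = toM8 z Y :=
  Matrix.ext fun i j => congrArg (toK z) (h i j)

theorem toM8_triProd (hz : IsZeta z) {A B : ℕ} (hA : IsTri A) (hB : IsTri B) :
    toM8 z (triProd A B) = toM8 z A * toM8 z B :=
  (toM8_congr (triProd A B) (mulP A B) fun i j =>
    (ge_triProd hA hB (cd_lt i) (cd_lt j)).trans (ge_mulP A B (cd_lt i) (cd_lt j)).symm).trans (toM8_mul hz A B)

/-- Unitriangular matrices for the grading. -/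
def Strict (M : Matrix I8 I8 K) : Prop := ∀ a b, ¬ grade (cd a) < grade (cd b) → M a b = if a = b then 1 else 0

theorem strict_toM8 {A : ℕ} (hA : IsTri A) : Strict (toM8 z A) := by
  intro a b h
  show toK z _ = _
  rw [hA _ (cd_lt a) _ (cd_lt b) h]
  by_cases e : a = b
  · simp [e, toK]
  · simp [e, cd_injective.ne e, toK]

theorem Strict.mul {M N : Matrix I8 I8 K} (hM : Strict M) (hN : Strict N) : Strict (M * N) := by
  intro a b h
  rw [Matrix.mul_apply]
  by_cases e : a = b
  · subst e
    rw [if_pos rfl, Finset.sum_eq_single a]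
    · rw [hM a a h, hN a a h, if_pos rfl, mul_one]
    · intro t _ ht
      by_cases h1 : grade (cd a) < grade (cd t)
      · rw [hN t a (by omega), if_neg ht, mul_zero]
      · rw [hM a t h1, if_neg (Ne.symm ht), zero_mul]
    · intro hn; exact absurd (Finset.mem_univ _) hn
  · rw [if_neg e]
    refine Finset.sum_eq_zero fun t _ => ?_
    by_cases h1 : grade (cd a) < grade (cd t)
    · rw [hN t b (by omega), if_neg (fun e' : t = b => h (e' ▸ h1)), mul_zero]
    · by_cases h2 : a = t
      · subst h2; rw [hN a b h, if_neg e, mul_zero]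
      · rw [hM a t h1, if_neg h2, zero_mul]

theorem strict_one : Strict (1 : Matrix I8 I8 K) := fun a b _ => by rw [Matrix.one_apply]

/-- The nilpotent part vanishes off the grading. -/
theorem nil_apply {M : Matrix I8 I8 K} (hM : Strict M) {a b : I8} (h : ¬ grade (cd a) < grade (cd b)) :
    (M + 1) a b = 0 := by
  rw [Matrix.add_apply, hM a b h, Matrix.one_apply]
  by_cases e : a = b
  · simp [e, CharTwo.add_self_eq_zero]
  · simp [e]

theorem nil_pow {M : Matrix I8 I8 K} (hM : Strict M) : ∀ (n : ℕ) (a b : I8),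
    grade (cd b) < grade (cd a) + n → ((M + 1) ^ n) a b = 0
  | 0, a, b, h => by
    rw [pow_zero, Matrix.one_apply, if_neg]
    rintro rfl
    omega
  | n + 1, a, b, h => by
    rw [pow_succ, Matrix.mul_apply]
    refine Finset.sum_eq_zero fun t _ => ?_
    by_cases h1 : grade (cd t) < grade (cd a) + n
    · rw [nil_pow hM n a t h1, zero_mul]
    · rw [nil_apply hM (by omega), mul_zero]

theorem grade_le (k : ℕ) (hk : k < 8) : grade k ≤ 6 := by interval_cases k <;> decide

theorem strict_pow_seven {M : Matrix I8 I8 K} (hM : Strict M) : (M + 1) ^ 7 = 0 :=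
  Matrix.ext fun a b => nil_pow hM 7 a b (by have := grade_le _ (cd_lt b); omega)

/-- The entries of the cube. -/
theorem cube_apply (hz : IsZeta z) {A : ℕ} (hA : IsTri A) {p q : I8} :
    ((toM8 z A + 1) ^ 3 : Matrix I8 I8 K) p q = toK z (cubeAt A (cd p) (cd q)) := by
  have hlt : ∀ (l : List ℕ) (f : ℕ → ℕ), (∀ k, f k < 8) → sumOn l f < 8 := by
    intro l f hf
    induction l with
    | nil => exact Nat.succ_pos _
    | cons a t ih => exact addE_lt (hf a) ih
  set ne : ℕ → ℕ → ℕ := fun i j => if grade i < grade j then ge A i j else 0 with hne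
  have hne8 : ∀ i j, ne i j < 8 := fun i j => by
    simp only [hne]; split_ifs
    · exact ge_lt ..
    · exact Nat.succ_pos _
  have hD : ∀ a b : I8, (toM8 z A + 1) a b = toK z (ne (cd a) (cd b)) := by
    intro a b
    simp only [hne]
    by_cases h : grade (cd a) < grade (cd b)
    · rw [if_pos h, Matrix.add_apply, Matrix.one_apply, if_neg (by rintro rfl; omega), add_zero]
      rfl
    · rw [if_neg h, nil_apply (strict_toM8 hA) h]
      rfl
  have hs : ∀ f : ℕ → ℕ, (∀ k, f k < 8) → ∑ t : I8, toK z (f (cd t)) = toK z (sum8 f) := fun f hf => by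
    rw [toK_sum8 hf, sum_I8 fun k => toK z (f k)]
  rw [show (3 : ℕ) = 1 + 1 + 1 from rfl, pow_succ', pow_succ', pow_one, Matrix.mul_apply]
  have hin : ∀ t : I8, ((toM8 z A + 1) * (toM8 z A + 1)) t q =
      toK z (sum8 fun l => mulE (ne (cd t) l) (ne l (cd q))) := fun t => by
    rw [Matrix.mul_apply, ← hs _ (fun _ => mulE_lt _ _)]
    exact Finset.sum_congr rfl fun l _ => by rw [toK_mul hz (hne8 ..) (hne8 ..), hD, hD]
  rw [show cubeAt A (cd p) (cd q) = sum8 fun k => mulE (ne (cd p) k) (sum8 fun l => mulE (ne k l) (ne l (cd q))) from ?_]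
  · rw [← hs _ (fun _ => mulE_lt _ _)]
    exact Finset.sum_congr rfl fun t _ => by
      rw [toK_mul hz (hne8 ..) (sum8_lt fun _ => mulE_lt _ _), hD, hin]
  have hinner : ∀ k < 8, sum8 (fun l => mulE (ne k l) (ne l (cd q))) =
      sumOn (openTab.getD (8 * k + cd q) []) fun l => mulE (ge A k l) (ge A l (cd q)) := by
    intro k hk
    rw [sum8_eq_of_zero _ _ (tabs_shape ⟨8 * k + cd q, by have := cd_lt q; omega⟩).1]
    · refine sumOn_congr ?_
      intro l hl
      have hk' : ∀ l ∈ openTab.getD (8 * k + cd q) [], grade k < grade l ∧ grade l < grade (cd q) :=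
        fun l hl => open_shape ⟨k, hk⟩ ⟨cd q, cd_lt q⟩ l hl
      simp only [hne, if_pos (hk' l hl).1, if_pos (hk' l hl).2]
    · intro l hl hm
      simp only [hne]
      split_ifs with h1 h2
      · exact absurd (open_mem ⟨k, hk⟩ ⟨cd q, cd_lt q⟩ ⟨l, hl⟩ h1 h2) hm
      · exact mulE_eq_zero (ge_lt _ _ _) (Nat.succ_pos _) (Or.inr rfl)
      · exact mulE_eq_zero (Nat.succ_pos _) (ge_lt _ _ _) (Or.inl rfl)
      · exact mulE_eq_zero (Nat.succ_pos _) (Nat.succ_pos _) (Or.inl rfl)
  rw [sum8_eq_of_zero _ _ (tabs_shape ⟨8 * cd p + cd q, by have := cd_lt p; have := cd_lt q; omega⟩).1]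
  · refine sumOn_congr ?_
    intro k hk
    have h := open_shape ⟨cd p, cd_lt p⟩ ⟨cd q, cd_lt q⟩ k hk
    have hk8 : k < 8 := by
      have := (tabs_shape ⟨8 * cd p + cd q, by have := cd_lt p; have := cd_lt q; omega⟩).1
      rw [this] at hk
      exact List.mem_range.1 (List.mem_filter.1 hk).1
    rw [hinner k hk8]
    simp only [hne, if_pos h.1]
  · intro k hk hm
    by_cases h1 : grade (cd p) < grade k
    · have h2 : ¬ grade k < grade (cd q) := fun h2 => hm (open_mem ⟨cd p, cd_lt p⟩ ⟨cd q, cd_lt q⟩ ⟨k, hk⟩ h1 h2)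
      refine mulE_eq_zero (hne8 ..) (sum8_lt fun _ => mulE_lt _ _) (Or.inr ?_)
      rw [sum8_eq_of_zero _ [] (by decide)]
      · rfl
      intro l _ _
      refine mulE_eq_zero (hne8 ..) (hne8 ..) ?_
      simp only [hne]
      by_cases h3 : grade k < grade l
      · exact Or.inr (if_neg (by omega))
      · exact Or.inl (if_neg h3)
    · exact mulE_eq_zero (hne8 ..) (sum8_lt fun _ => mulE_lt _ _) (Or.inl (by simp only [hne, if_neg h1]))

/-- The cube of the nilpotent part is zero or has rank at least two. -/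
theorem cube_alt (hz : IsZeta z) {A : ℕ} (hA : IsTri A) (h : chkCube A = true) :
    (toM8 z A + 1) ^ 3 = 0 ∨ 1 < finrank K (rg ((toM8 z A + 1) ^ 3)) := by
  simp only [chkCube, Bool.or_eq_true, Bool.and_eq_true, Bool.not_eq_true', List.all_eq_true] at h
  rcases h with ⟨h1, h2⟩ | h
  · refine Or.inr (Nat.lt_of_not_le fun hle => ?_)
    have e := minor_eq hle (Sum.inl 0) (Sum.inl 2) (Sum.inr 2) (Sum.inr 0)
    rw [nil_pow (strict_toM8 hA) 3 (Sum.inl 2) (Sum.inr 2) (by decide), mul_zero, cube_apply hz hA,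
      cube_apply hz hA, mul_eq_zero] at e
    have h1' : cubeAt A 0 6 ≠ 0 := fun e0 => by simp [e0] at h1
    have h2' : cubeAt A 2 4 ≠ 0 := fun e0 => by simp [e0] at h2
    rcases e with e | e
    · exact h1' (toK_injective hz ⟨cubeAt A 0 6, cubeAt_lt _ _ _⟩ e)
    · exact h2' (toK_injective hz ⟨cubeAt A 2 4, cubeAt_lt _ _ _⟩ e)
  · refine Or.inl (Matrix.ext fun p q => ?_)
    by_cases hg : grade (cd q) < grade (cd p) + 3
    · rw [nil_pow (strict_toM8 hA) 3 p q hg]; rfl
    · have hm := gapThree_mem ⟨cd p, cd_lt p⟩ ⟨cd q, cd_lt q⟩ (Nat.le_of_not_lt hg)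
      rw [cube_apply hz hA, Nat.eq_of_beq_eq_true (h _ hm)]
      rfl

end Cfsg.Lib.TriSpec
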