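import Cfsg.Agent.Lib.TriSpec.Defs

/-!
The checks on the small Sylow subgroups, the halves and the words.
-/

set_option autoImplicit false
set_option maxRecDepth 100000

namespace Cfsg.Lib.TriSpec

theorem three_closed :
    chkClosed (wThreeAChain.getLastD 0) (wThreeBChain.getLastD 0) threeEls threePar threeTab = true := by
  decide +kernel

theorem three_cert : (List.range 80).all (fun i => chkThree (threeEls.getD (i + 1) 0) (threeCert.getD i [])) = true := by
  decide +kernel

theorem seven_closed :
    chkClosed (wSevenAChain.getLastD 0) (wSevenBChain.getLastD 0) sevenEls sevenPar sevenTab = true := by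
  decide +kernel

theorem seven_cert : (List.range 48).all (fun i => chkSeven (sevenEls.getD (i + 1) 0) (sevenCert.getD i [])) = true := by
  decide +kernel

theorem halves_tri : (halfA.all chkTri && halfB.all chkTri) = true := by
  decide +kernel

theorem words_ok : (chkChain wThreeA wThreeAChain && chkChain wThreeB wThreeBChain && chkChain wSevenA wSevenAChain &&
    chkChain wSevenB wSevenBChain && chkChain wThirteen wThirteenChain && chkChain wOrd8 wOrd8Chain &&
    chkChain wOrd12 wOrd12Chain && chkChain wOrd28 wOrd28Chain) = true := by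
  decide +kernel

theorem pow_ok : (chkPow (wOrd8Chain.getLastD 0) powOrd8 8 && chkPow (wOrd12Chain.getLastD 0) powOrd12 12 &&
    chkPow (wOrd28Chain.getLastD 0) powOrd28 28 && chkPow (wThirteenChain.getLastD 0) powThirteen 13 &&
    Nat.beq ((powThirteen.take 13).foldr addP 0) 0) = true := by
  decide +kernel

end Cfsg.Lib.TriSpec

namespace Cfsg.Lib.TriSpec

/-- A half is generated by six of the chosen elements. -/
def chkHalf (els : List ℕ) (b : List ℕ) : Bool :=
  Nat.beq els.length 64 && Nat.beq (els.getD 0 0) oneP && (List.range 6).all fun k =>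
    (List.range (2 ^ k)).all fun i => Nat.beq (mulP (els.getD i 0) (b.getD k 0)) (els.getD (i + 2 ^ k) 0)

theorem halves_gen :
    (chkHalf halfA [wPc0Chain.getLastD 0, wPc1Chain.getLastD 0, wPc2Chain.getLastD 0, wPc3Chain.getLastD 0,
        wPc4Chain.getLastD 0, wPc5Chain.getLastD 0] &&
      chkHalf halfB [wPc6Chain.getLastD 0, wPc7Chain.getLastD 0, wPc8Chain.getLastD 0, wPc9Chain.getLastD 0,
        wPc10Chain.getLastD 0, wPc11Chain.getLastD 0]) = true := by
  decide +kernel

theorem pc_ok : (chkChain wPc0 wPc0Chain && chkChain wPc1 wPc1Chain && chkChain wPc2 wPc2Chain &&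
    chkChain wPc3 wPc3Chain && chkChain wPc4 wPc4Chain && chkChain wPc5 wPc5Chain && chkChain wPc6 wPc6Chain &&
    chkChain wPc7 wPc7Chain && chkChain wPc8 wPc8Chain && chkChain wPc9 wPc9Chain &&
    chkChain wPc10 wPc10Chain && chkChain wPc11 wPc11Chain) = true := by
  decide +kernel

end Cfsg.Lib.TriSpec
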