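import Cfsg.Agent.Lib.TriSpec.Defs

/-!
A part of the check on the Sylow two-subgroup.
-/

set_option autoImplicit false
set_option maxRecDepth 100000

namespace Cfsg.Lib.TriSpec

theorem rows_ok1 : chkRows 1 = true := by
  decide +kernel

end Cfsg.Lib.TriSpec
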