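import Cfsg.Agent.Lib.TriSpec.Norms

/-!
The norm of an element vanishes unless its order is one, two, three, four, six, seven or fourteen.
-/

set_option autoImplicit false
set_option maxRecDepth 100000

namespace Cfsg.Lib.TriSpec

open Cfsg.Lib.Chev.D4Orth Matrix Module

theorem odd_parts : ∀ m ∈ Nat.divisors (3 ^ 4 * 7 ^ 2 * 13),
    m = 1 ∨ m = 3 ∨ m = 7 ∨ 9 ∣ m ∨ 13 ∣ m ∨ 21 ∣ m ∨ 49 ∣ m := by
  decide +kernel

theorem order_div {G : Type*} [Group G] [Finite G] {x : G} {m d : ℕ} (hd : d ∣ m) (hx : orderOf x = m) :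
    orderOf (x ^ (m / d)) = d := by
  have hm : 0 < m := hx ▸ orderOf_pos x
  obtain ⟨k, rfl⟩ := hd
  have hd0 : 0 < d := Nat.pos_of_ne_zero fun h => by simp [h] at hm
  have hk0 : k ≠ 0 := fun h => by simp [h] at hm
  rw [Nat.mul_div_cancel_left _ hd0, orderOf_pow' x hk0, hx, Nat.gcd_mul_left_left, Nat.mul_div_cancel _ (Nat.pos_of_ne_zero hk0)]

variable {K : Type*} [Field K] [CharP K 2] [Fintype K] {z : K} {G : Type*} [Group G] [Finite G] (ψ : G →* GL I8 K)

theorem finrank_fun : finrank K (I8 → K) = 8 := by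
  rw [Module.finrank_fintype_fun_eq_card]; rfl

theorem split_dim (e : Matrix I8 I8 K) : 8 ≤ finrank K (rg e) + finrank K (rg (1 + e)) := by
  have h : rg e ⊔ rg (1 + e) = ⊤ := eq_top_iff.2 fun v _ => by
    have : v = e *ᵥ v + (1 + e) *ᵥ v := by
      rw [← Matrix.add_mulVec, show e + (1 + e) = 1 by rw [add_comm 1 e, ← add_assoc, add_self, zero_add],
        Matrix.one_mulVec]
    rw [this]
    exact Submodule.add_mem_sup ⟨v, rfl⟩ ⟨v, rfl⟩
  have := Submodule.finrank_sup_add_finrank_inf_eq (rg e) (rg (1 + e))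
  rw [h, finrank_top, finrank_fun] at this
  omega

theorem finrank_conj (c g : G) (m : ℕ) (f : Matrix I8 I8 K → Matrix I8 I8 K)
    (hf : ∀ A, f (mat ψ c * A * mat ψ c⁻¹) = mat ψ c * f A * mat ψ c⁻¹) :
    finrank K (rg (f (nrm (mat ψ (c * g * c⁻¹)) m))) = finrank K (rg (f (nrm (mat ψ g) m))) := by
  rw [nrm_conj, hf, finrank_rg_conj (mat_inv_mul ψ c)]

theorem norm_eq_zero_or (hψ : Function.Injective ψ) (hK : Fintype.card K = 8) (hz : IsZeta z) (hgen : GenOK ψ z)
    (hcard : Nat.card G = 2 ^ 12 * (3 ^ 4 * 7 ^ 2 * 13)) (g : G) :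
    nrm (mat ψ g) (orderOf g) = 0 ∨ orderOf g ∈ [1, 2, 3, 4, 6, 7, 14] := by
  haveI h2 : Fact (Nat.Prime 2) := ⟨Nat.prime_two⟩
  haveI h3 : Fact (Nat.Prime 3) := ⟨Nat.prime_three⟩
  haveI h7 : Fact (Nat.Prime 7) := ⟨by norm_num⟩
  haveI h13 : Fact (Nat.Prime 13) := ⟨by norm_num⟩
  have hfac : ∀ p a r : ℕ, p.Prime → Nat.card G = p ^ a * r → ¬ p ∣ r → (Nat.card G).factorization p = a := by
    intro p a r hp e hr
    rw [e, Nat.factorization_mul (pow_ne_zero _ hp.ne_zero) (fun h0 => hr (by rw [h0]; exact dvd_zero p)), Finsupp.add_apply,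
      hp.factorization_pow, Finsupp.single_eq_same, Nat.factorization_eq_zero_of_not_dvd hr, add_zero]
  have f2 := hfac 2 12 _ Nat.prime_two hcard (by norm_num)
  have f3 := hfac 3 4 (2 ^ 12 * (7 ^ 2 * 13)) Nat.prime_three (by rw [hcard]; ring) (by norm_num)
  have f7 := hfac 7 2 (2 ^ 12 * (3 ^ 4 * 13)) (by norm_num) (by rw [hcard]; ring) (by norm_num)
  have f13 := hfac 13 1 (2 ^ 12 * (3 ^ 4 * 7 ^ 2)) (by norm_num) (by rw [hcard]; ring) (by norm_num)
  obtain ⟨P2, hP2, hU⟩ := exists_two ψ hψ hz hgen f2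
  obtain ⟨P3, hP3, hT⟩ := three_facts ψ hψ hz hgen f3
  obtain ⟨P7, hP7, hS⟩ := seven_facts ψ hψ hz hgen f7
  obtain ⟨t13, ht13, hn13⟩ := thirteen_facts ψ hψ hz hgen
  have hone : ∀ {c x : G}, c * x * c⁻¹ = 1 → x = 1 := fun h => by
    rw [mul_inv_eq_one, mul_eq_left] at h; exact h
  -- elements of order nine
  have k9 : ∀ x : G, orderOf x = 9 → nrm (mat ψ x) 9 = 0 := by
    intro x hx
    obtain ⟨c, hc⟩ := conj_mem (p := 3) P3 (by rw [f3, hP3]) (x := x) ⟨2, by
      rw [show 3 ^ 2 = 9 from rfl, ← hx, pow_orderOf_eq_one]⟩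
    rcases hT _ hc (fun e => by rw [hone e, orderOf_one] at hx; omega) with ⟨-, -, hn⟩ | ⟨h, -⟩
    · exact eq_zero_conj ψ (by rw [← nrm_conj]; exact hn)
    · rw [conj_pow] at h
      have := orderOf_dvd_of_pow_eq_one (hone h)
      rw [hx] at this; omega
  -- elements of order three
  have k3 : ∀ x : G, orderOf x = 3 → finrank K (rg (nrm (mat ψ x) 3)) ≤ 4 ∧
      (finrank K (rg (nrm (mat ψ x) 3)) ≤ 2 ∨ finrank K (rg (1 + nrm (mat ψ x) 3)) ≤ 4) := by
    intro x hx
    have hx3 : x ^ 3 = 1 := hx ▸ pow_orderOf_eq_one x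
    obtain ⟨c, hc⟩ := conj_mem (p := 3) P3 (by rw [f3, hP3]) (x := x) ⟨1, by rw [pow_one, hx3]⟩
    rcases hT _ hc (fun e => by rw [hone e, orderOf_one] at hx; omega) with ⟨-, h, -⟩ | ⟨-, h⟩
    · exact absurd (by rw [conj_pow, hx3, mul_one, mul_inv_cancel]) h
    · rwa [finrank_conj ψ c x 3 (fun A => A) (fun _ => rfl), finrank_conj ψ c x 3 (fun A => 1 + A) (fun A => by
        rw [mul_add, add_mul, mul_one, mat_inv_mul])] at h
  -- elements of order seven
  have k7 : ∀ x : G, orderOf x = 7 → finrank K (rg (nrm (mat ψ x) 7)) ≤ 2 := by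
    intro x hx
    have hx7 : x ^ 7 = 1 := hx ▸ pow_orderOf_eq_one x
    obtain ⟨c, hc⟩ := conj_mem (p := 7) P7 (by rw [f7, hP7]) (x := x) ⟨1, by rw [pow_one, hx7]⟩
    obtain ⟨-, h, -⟩ := hS _ hc (fun e => by rw [hone e, orderOf_one] at hx; omega)
    rwa [finrank_conj ψ c x 7 (fun A => A) (fun _ => rfl)] at h
  have k49 : ∀ x : G, orderOf x = 49 → False := by
    intro x hx
    obtain ⟨c, hc⟩ := conj_mem (p := 7) P7 (by rw [f7, hP7]) (x := x) ⟨2, by
      rw [show 7 ^ 2 = 49 from rfl, ← hx, pow_orderOf_eq_one]⟩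
    obtain ⟨h, -, -⟩ := hS _ hc (fun e => by rw [hone e, orderOf_one] at hx; omega)
    rw [conj_pow] at h
    have := Nat.le_of_dvd (by norm_num) (orderOf_dvd_of_pow_eq_one (hone h))
    omega
  -- elements of order thirteen
  have k13 : ∀ x : G, orderOf x = 13 → nrm (mat ψ x) 13 = 0 := by
    intro x hx
    have hs : Nat.card (Subgroup.zpowers t13) = 13 ^ (Nat.card G).factorization 13 := by
      rw [Nat.card_zpowers, ht13, f13, pow_one]
    obtain ⟨c, hc⟩ := conj_mem (p := 13) (Subgroup.zpowers t13) hs (x := x) ⟨1, by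
      rw [pow_one, ← hx, pow_orderOf_eq_one]⟩
    obtain ⟨k, hk⟩ := (mem_powers_iff_mem_zpowers.2 hc)
    set y := c * x * c⁻¹ with hy
    have hy13 : y ^ 13 = 1 := by rw [hy, conj_pow, ← hx, pow_orderOf_eq_one, mul_one, mul_inv_cancel]
    have hyne : y ≠ 1 := fun e => by rw [hone e, orderOf_one] at hx; omega
    obtain ⟨l, hl⟩ : ∃ l, y ^ l = t13 := by
      have hco : k.Coprime 13 := by
        refine ((Nat.Prime.coprime_iff_not_dvd (by norm_num)).2 fun hd => hyne ?_).symm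
        show y = 1
        rw [← hk]
        exact orderOf_dvd_iff_pow_eq_one.1 (ht13 ▸ hd)
      have hk' : t13 ^ k = y := hk
      obtain ⟨l, hl⟩ : ∃ l, k * l % 13 = 1 := by
        refine ⟨k ^ 11, ?_⟩
        have := Nat.ModEq.pow_totient hco
        rw [Nat.totient_prime (by norm_num)] at this
        rw [← pow_succ']
        exact this
      refine ⟨l, ?_⟩
      rw [← hk', ← pow_mul, ← pow_mod_orderOf, ht13, hl, pow_one]
    refine eq_zero_conj ψ (c := c) ?_
    rw [← nrm_conj, ← hy]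
    refine nrm_eq_zero_of_pow (by rw [← mat_pow, hy13, mat_one]) (k := l) (n := 13) (by decide) ?_
    rw [← mat_pow, hl, hn13]
  -- elements of order twenty-one
  have k21 : ∀ x : G, orderOf x = 21 → nrm (mat ψ x) 21 = 0 := by
    intro g hg
    have hgo : mat ψ g ^ 21 = 1 := by rw [← mat_pow, ← hg, pow_orderOf_eq_one, mat_one]
    have hX : orderOf (g ^ 3) = 7 := by rw [orderOf_pow' g (by norm_num), hg]; rfl
    have hY : orderOf (g ^ 7) = 3 := by rw [orderOf_pow' g (by norm_num), hg]; rfl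
    obtain ⟨c, hc⟩ := conj_mem (p := 7) P7 (by rw [f7, hP7]) (x := g ^ 3) ⟨1, by
      rw [pow_one, ← hX, pow_orderOf_eq_one]⟩
    obtain ⟨hx7, hrk, hcyc⟩ := hS _ hc (fun e => by rw [hone e, orderOf_one] at hX; omega)
    rcases hcyc with h | ⟨v, hv⟩
    · refine nrm_eq_zero_of_pow hgo (k := 3) (n := 7) (by decide) ?_
      rw [← mat_pow]
      exact eq_zero_conj ψ (c := c) (by rw [← nrm_conj]; exact h)
    exfalso
    set x := mat ψ (c * g ^ 3 * c⁻¹) with hxd
    set y := mat ψ (c * g ^ 7 * c⁻¹) with hyd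
    have hx1 : x ^ 7 = 1 := by rw [hxd, ← mat_pow, hx7, mat_one]
    have hy1 : y ^ 3 = 1 := by
      rw [hyd, ← mat_pow, conj_pow, ← hY, pow_orderOf_eq_one, mul_one, mul_inv_cancel, mat_one]
    have hxy : Commute y x := by
      have h : Commute (c * g ^ 7 * c⁻¹) (c * g ^ 3 * c⁻¹) := by
        have := ((Commute.refl g).pow_pow 7 3).map (MulAut.conj c).toMonoidHom
        simpa using this
      show _ * _ = _ * _
      rw [hxd, hyd, ← mat_mul, ← mat_mul, h.eq]
    have hfix := fix_of_cyclic (x := x) (y := y) (z := x + 1) (m := 6) (by rw [pow_succ, hx1, one_mul])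
      (frob_eq hK) hy1 hxy (hxy.add_right (Commute.one_right _)) v hv
    -- the moved space of x lies in the fixed space of y
    have hle : rg (x + 1) ≤ rg (nrm y 3) := by
      rintro w ⟨u, rfl⟩
      refine ⟨(x + 1) *ᵥ u, ?_⟩
      show nrm y 3 *ᵥ ((x + 1) *ᵥ u) = (x + 1) *ᵥ u
      have e3 : nrm y 3 * (x + 1) = x + 1 := by
        rw [nrm_three, add_mul, add_mul, one_mul, hfix, mul_assoc, hfix, hfix, add_self, zero_add]
      rw [Matrix.mulVec_mulVec, e3]
    have hle2 : rg (1 + nrm x 7) ≤ rg (x + 1) := by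
      have e : 1 + nrm x 7 = (x + 1) * (x + x ^ 3 + x ^ 5) := by
        rw [nrm_seven]
        simp only [mul_add, add_mul, one_mul, ← pow_succ', ← pow_succ, add_assoc]
        have := add_self (1 : Matrix I8 I8 K)
        rw [← add_assoc (1 : Matrix I8 I8 K) 1, this, zero_add, sq]
        abel
      rw [e]; exact rg_le_mul _ _
    have h8 := split_dim (nrm x 7)
    have a1 := Submodule.finrank_mono hle
    have a2 := Submodule.finrank_mono hle2
    have a3 : finrank K (rg (nrm y 3)) ≤ 4 := by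
      rw [hyd, finrank_conj ψ c (g ^ 7) 3 (fun A => A) (fun _ => rfl)]
      exact (k3 _ hY).1
    omega
  -- the general element
  set o := orderOf g with ho
  have hod : o ∣ Nat.card G := orderOf_dvd_natCard g
  have ho0 : 0 < o := orderOf_pos g
  obtain ⟨a, m, hm, hom⟩ := Nat.exists_eq_two_pow_mul_odd ho0.ne'
  rw [mul_comm] at hom
  have hmd : m ∈ Nat.divisors (3 ^ 4 * 7 ^ 2 * 13) := by
    refine Nat.mem_divisors.2 ⟨?_, by norm_num⟩
    have : m ∣ 2 ^ 12 * (3 ^ 4 * 7 ^ 2 * 13) := hcard ▸ (Dvd.intro _ hom.symm).trans hod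
    exact ((Nat.coprime_two_right.2 hm).pow_right 12).dvd_of_dvd_mul_left this
  have hgo : mat ψ g ^ (m * 2 ^ a) = 1 := by rw [← mat_pow, ← hom, ho, pow_orderOf_eq_one, mat_one]
  obtain ⟨β, hu, hN⟩ := nrm_split hm hgo
  set X := g ^ 2 ^ a with hXd
  set u := g ^ (β * m) with hud
  rw [← hom, ← mat_pow, ← mat_pow, ← hXd, ← hud] at hN
  have hXm : orderOf X = m := by
    rw [hXd, orderOf_pow' g (pow_ne_zero _ two_ne_zero), ← ho, hom, Nat.gcd_mul_left_left,
      Nat.mul_div_cancel _ (by positivity)]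
  have hXo : mat ψ X ^ m = 1 := by rw [← mat_pow, ← hXm, pow_orderOf_eq_one, mat_one]
  have hu1 : u ^ 2 ^ a = 1 := mat_injective ψ hψ (by rw [mat_pow, hud, mat_pow, hu, mat_one])
  have hzero : nrm (mat ψ X) m = 0 → nrm (mat ψ g) o = 0 := fun h => by rw [hN, h, zero_mul]
  -- the two-part
  obtain ⟨c, hc⟩ := conj_mem (p := 2) P2 (by rw [f2, hP2]) (x := u) ⟨a, hu1⟩
  obtain ⟨h7', h3'⟩ := hU _ hc
  have hD : ∀ k, (mat ψ (c * u * c⁻¹) + 1) ^ k = mat ψ c * (mat ψ u + 1) ^ k * mat ψ c⁻¹ := by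
    intro k
    have e : mat ψ (c * u * c⁻¹) + 1 = mat ψ c * (mat ψ u + 1) * mat ψ c⁻¹ := by
      rw [mul_add, add_mul, mul_one, mat_inv_mul, mat_mul, mat_mul]
    induction k with
    | zero => rw [pow_zero, pow_zero, mul_one, mat_inv_mul]
    | succ k ih =>
      rw [pow_succ, ih, e, pow_succ]
      simp only [mul_assoc]
      rw [← mul_assoc (mat ψ c⁻¹) (mat ψ c), ← mat_mul ψ c⁻¹ c, inv_mul_cancel, mat_one, one_mul]
  set D := mat ψ u + 1 with hDd
  have hD7 : D ^ 7 = 0 := eq_zero_conj ψ (c := c) (by rw [← hD]; exact h7')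
  rw [hD 3, finrank_rg_conj (mat_inv_mul ψ c)] at h3'
  have hbig : ∀ n, 7 ≤ n → D ^ n = 0 := fun n hn => pow_eq_zero_of_le hn hD7
  have hcom : Commute (mat ψ X) D := by
    refine Commute.add_right ?_ (Commute.one_right _)
    show _ * _ = _ * _
    rw [← mat_mul, ← mat_mul, hXd, hud, ← pow_add, ← pow_add, add_comm]
  have hce : Commute D (nrm (mat ψ X) m) := commute_nrm hcom.symm m
  have hN' : nrm (mat ψ g) o = D ^ (2 ^ a - 1) * nrm (mat ψ X) m := by rw [hN]; exact ((hce.pow_left _).eq).symm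
  have hlarge : 3 ≤ a → nrm (mat ψ g) o = 0 := fun ha => by
    have : 2 ^ 3 ≤ 2 ^ a := Nat.pow_le_pow_right two_pos ha
    rw [hN', hbig _ (by omega), zero_mul]
  rcases Nat.lt_or_ge a 3 with ha | ha
  swap
  · exact Or.inl (hlarge ha)
  rcases odd_parts m hmd with e | e | e | e | e | e | e
  · right
    rw [hom, e]
    interval_cases a <;> simp
  · rcases Nat.lt_or_ge a 2 with ha2 | ha2
    · right
      rw [hom, e]
      interval_cases a <;> simp
    · left
      obtain rfl : a = 2 := by omega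
      rw [e] at hce hN' hXm
      obtain ⟨h4, h24⟩ := k3 X hXm
      rw [hN', show 2 ^ 2 - 1 = 3 from rfl]
      rcases h24 with h | h
      · exact pow_mul_eq_zero hD7 hce h (by norm_num)
      · have h1 := finrank_cube_le (y := mat ψ X) (by rw [← mat_pow, ← hXm, pow_orderOf_eq_one, mat_one]) rfl
          (cube_root_one hK) hD7 hcom h4 h
        rcases h3' with h' | h'
        · rw [eq_zero_conj ψ (c := c) h', zero_mul]
        · omega
  · rcases Nat.lt_or_ge a 2 with ha2 | ha2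
    · right
      rw [hom, e]
      interval_cases a <;> simp
    · left
      obtain rfl : a = 2 := by omega
      rw [e] at hce hN' hXm
      rw [hN']
      exact pow_mul_eq_zero hD7 hce (k7 X hXm) (by norm_num)
  · refine Or.inl (hzero (nrm_eq_zero_of_pow hXo (k := m / 9) (n := 9) (by decide) ?_))
    rw [← mat_pow]
    exact k9 _ (order_div e hXm)
  · refine Or.inl (hzero (nrm_eq_zero_of_pow hXo (k := m / 13) (n := 13) (by decide) ?_))
    rw [← mat_pow]
    exact k13 _ (order_div e hXm)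
  · refine Or.inl (hzero (nrm_eq_zero_of_pow hXo (k := m / 21) (n := 21) (by decide) ?_))
    rw [← mat_pow]
    exact k21 _ (order_div e hXm)
  · exact absurd (order_div e hXm) (fun h => k49 _ h)

end Cfsg.Lib.TriSpec
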