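import Cfsg.Agent.Lib.TriSpec.Data
import Cfsg.Agent.Lib.TriSpec.DataSylow
import Cfsg.Agent.Lib.TriSpec.DataTwo

/-!
The checks on packed matrices.
-/

set_option autoImplicit false

namespace Cfsg.Lib.TriSpec

/-- The grading of the coordinates. -/
def grade (k : ℕ) : ℕ := [0, 1, 2, 3, 6, 5, 4, 3].getD k 0

/-- Sums over a list of indices. -/
def sumOn (l : List ℕ) (f : ℕ → ℕ) : ℕ := l.foldr (fun k acc => addE (f k) acc) 0

/-- The indices strictly between two coordinates. -/
def openTab : List (List ℕ) := [[], [], [1], [1, 2], [1, 2, 3, 5, 6, 7], [1, 2, 3, 6, 7], [1, 2, 3, 7], [1, 2], [], [], [], [2], [2, 3, 5, 6, 7], [2, 3, 6, 7], [2, 3, 7], [2], [], [], [], [], [3, 5, 6, 7], [3, 6, 7], [3, 7], [], [], [], [], [], [5, 6], [6], [], [], [], [], [], [], [], [], [], [], [], [], [], [], [], [], [], [], [], [], [], [], [5], [], [], [], [], [], [], [], [5, 6], [6], [], []]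

/-- The indices between two coordinates, ends included. -/
def closedTab : List (List ℕ) := [[0], [0, 1], [0, 1, 2], [0, 1, 2, 3], [0, 1, 2, 3, 4, 5, 6, 7], [0, 1, 2, 3, 5, 6, 7], [0, 1, 2, 3, 6, 7], [0, 1, 2, 7], [0, 1], [1], [1, 2], [1, 2, 3], [1, 2, 3, 4, 5, 6, 7], [1, 2, 3, 5, 6, 7], [1, 2, 3, 6, 7], [1, 2, 7], [0, 2], [1, 2], [2], [2, 3], [2, 3, 4, 5, 6, 7], [2, 3, 5, 6, 7], [2, 3, 6, 7], [2, 7], [0, 3], [1, 3], [2, 3], [3], [3, 4, 5, 6], [3, 5, 6], [3, 6], [3, 7], [0, 4], [1, 4], [2, 4], [3, 4], [4], [4, 5], [4, 6], [4, 7], [0, 5], [1, 5], [2, 5], [3, 5], [4, 5], [5], [5, 6], [5, 7], [0, 6], [1, 6], [2, 6], [3, 6], [4, 5, 6], [5, 6], [6], [6, 7], [0, 7], [1, 7], [2, 7], [3, 7], [4, 5, 6, 7], [5, 6, 7], [6, 7], [7]]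

/-- An entry of a product of triangular matrices. -/
def triAt (A B k : ℕ) : ℕ :=
  if Nat.blt (grade (k / 8)) (grade (k % 8)) then
    sumOn (closedTab.getD k []) fun t => mulE (ge A (k / 8) t) (ge B t (k % 8))
  else if Nat.beq (k / 8) (k % 8) then 1 else 0

/-- The product of triangular matrices. -/
def triProd (A B : ℕ) : ℕ := pack ((List.range 64).map (triAt A B))

/-- An entry of the cube of the nilpotent part. -/
def cubeAt (M p q : ℕ) : ℕ :=
  sumOn (openTab.getD (8 * p + q) []) fun k =>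
    mulE (ge M p k) (sumOn (openTab.getD (8 * k + q) []) fun l => mulE (ge M k l) (ge M l q))

/-- The pairs of coordinates three grades apart. -/
def gapThree : List (ℕ × ℕ) := [(0, 3), (0, 4), (0, 5), (0, 6), (0, 7), (1, 4), (1, 5), (1, 6), (2, 4), (2, 5), (3, 4), (7, 4)]

/-- The cube vanishes or has rank at least two. -/
def chkCube (M : ℕ) : Bool :=
  (!Nat.beq (cubeAt M 0 6) 0 && !Nat.beq (cubeAt M 2 4) 0) ||
    gapThree.all fun p => Nat.beq (cubeAt M p.1 p.2) 0

/-- The code of a triangular matrix. -/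
def codeU (M : ℕ) : ℕ :=
  pack [ge M 0 1, ge M 0 2, ge M 0 3,
    Nat.land (ge M 0 6) 1 + 2 * Nat.land (ge M 0 5) 1 + 4 * Nat.land (ge M 1 2) 1]

/-- Decoding. -/
def decU (c : ℕ) : ℕ := Nat.land (Nat.shiftRight (decTab.getD (c / 64) 0) (12 * (c % 64))) 4095

/-- The checks on one element. -/
def chkU (M n : ℕ) : Bool := chkCube M && Nat.beq (decU (codeU M)) n

/-- The checks on a row of elements. -/
def chkRow (i : ℕ) : Bool :=
  (List.range 64).all fun j => chkU (triProd (halfA.getD i 0) (halfB.getD j 0)) (64 * i + j)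

/-- The checks on some rows. -/
def chkRows (c : ℕ) : Bool := (List.range 8).all fun i => chkRow (8 * c + i)

/-- A matrix is unitriangular for the grading. -/
def chkTri (A : ℕ) : Bool :=
  (List.range 8).all fun p => (List.range 8).all fun q =>
    if Nat.beq p q then Nat.beq (ge A p q) 1 else Nat.blt (grade p) (grade q) || Nat.beq (ge A p q) 0

/-- A chain of partial products. -/
def chkChain (w chain : List ℕ) : Bool :=
  Nat.beq chain.length (w.length + 1) && Nat.beq (chain.getD 0 0) oneP &&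
    (List.range w.length).all fun i => Nat.blt (w.getD i 0) 16 &&
      Nat.beq (mulP (chain.getD i 0) (genTab.getD (w.getD i 0) 0)) (chain.getD (i + 1) 0)

/-- A chain of powers showing the order. -/
def chkPow (x : ℕ) (pw : List ℕ) (o : ℕ) : Bool :=
  Nat.beq pw.length (o + 1) && Nat.beq (pw.getD 0 0) oneP && Nat.beq (pw.getD o 0) oneP &&
    (List.range o).all fun i => Nat.beq (mulP (pw.getD i 0) x) (pw.getD (i + 1) 0) &&
      (Nat.beq i 0 || !Nat.beq (pw.getD i 0) oneP)

/-- The key of a matrix. -/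
def keyP (A : ℕ) : List ℕ := (List.range 64).map fun k => ge A (k / 8) (k % 8)

/-- A list of keys is increasing or at least without repetition. -/
def chkDistinct : List ℕ → Bool
  | [] => true
  | a :: l => (l.all fun b => !Nat.beq a b) && chkDistinct l

/-- A matrix is given by its sixty-four entries. -/
def chkPacked (A : ℕ) : Bool := Nat.beq (pack (keyP A)) A

/-- A subgroup generated by two elements, listed. -/
def chkClosed (g h : ℕ) (els : List ℕ) (par tab : List (ℕ × ℕ)) : Bool :=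
  Nat.beq (els.getD 0 0) oneP && Nat.beq par.length els.length && Nat.beq tab.length els.length &&
    chkDistinct els && els.all chkPacked && (List.range els.length).all fun i =>
      (Nat.beq i 0 || (Nat.blt (par.getD i (0, 0)).1 i && Nat.blt (par.getD i (0, 0)).2 2 &&
        Nat.beq (mulP (els.getD (par.getD i (0, 0)).1 0) (if Nat.beq (par.getD i (0, 0)).2 0 then g else h))
          (els.getD i 0))) &&
      Nat.blt (tab.getD i (0, 0)).1 els.length && Nat.blt (tab.getD i (0, 0)).2 els.length &&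
      Nat.beq (mulP (els.getD i 0) g) (els.getD (tab.getD i (0, 0)).1 0) &&
      Nat.beq (mulP (els.getD i 0) h) (els.getD (tab.getD i (0, 0)).2 0)

/-- The first columns are the only non-zero ones, or rows. -/
def chkFactor (E A B k : ℕ) : Bool :=
  Nat.beq (mulP A B) E && (List.range 8).all fun i => (List.range 8).all fun j =>
    Nat.blt i k || Nat.beq (ge B i j) 0

/-- The certificate of an element of the Sylow three-subgroup. -/
def chkThree (x : ℕ) : List ℕ → Bool
  | [0, x2, x3, x6, e3] =>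
    Nat.beq (mulP x x) x2 && Nat.beq (mulP x2 x) x3 && Nat.beq (mulP x3 x3) x6 && Nat.beq (mulP x6 x3) oneP &&
      !Nat.beq x3 oneP && Nat.beq e3 (addP (addP oneP x) x2) &&
      Nat.beq (mulP e3 (addP (addP oneP x3) x6)) 0
  | [1, x2, e, k, A, B] =>
    Nat.beq (mulP x x) x2 && Nat.beq (mulP x2 x) oneP && Nat.beq e (addP (addP oneP x) x2) &&
      Nat.ble k 2 && chkFactor e A B k
  | [2, x2, e, k, A, B, A', B'] =>
    Nat.beq (mulP x x) x2 && Nat.beq (mulP x2 x) oneP && Nat.beq e (addP (addP oneP x) x2) &&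
      Nat.beq k 4 && chkFactor e A B 4 && chkFactor (addP oneP e) A' B' 4
  | _ => false

/-- The powers below seven of an element. -/
def chkPowSeven (x x2 x3 x4 x5 x6 : ℕ) : Bool :=
  Nat.beq (mulP x x) x2 && Nat.beq (mulP x2 x) x3 && Nat.beq (mulP x3 x) x4 && Nat.beq (mulP x4 x) x5 &&
    Nat.beq (mulP x5 x) x6 && Nat.beq (mulP x6 x) oneP

/-- The sum of the powers of an element of order seven. -/
def sumSeven (x x2 x3 x4 x5 x6 : ℕ) : ℕ :=
  addP (addP (addP oneP x) (addP x2 x3)) (addP (addP x4 x5) x6)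

/-- The certificate of an element of the Sylow seven-subgroup. -/
def chkSeven (x : ℕ) : List ℕ → Bool
  | [0, x2, x3, x4, x5, x6] => chkPowSeven x x2 x3 x4 x5 x6 && Nat.beq (sumSeven x x2 x3 x4 x5 x6) 0
  | [1, x2, x3, x4, x5, x6, A, B, V, W, T, C, W1, W2, W3, W4, W5] =>
    chkPowSeven x x2 x3 x4 x5 x6 && chkFactor (sumSeven x x2 x3 x4 x5 x6) A B 2 &&
      Nat.beq (mulP (addP oneP x) V) W && Nat.beq (mulP x W) W1 && Nat.beq (mulP x2 W) W2 &&
      Nat.beq (mulP x3 W) W3 && Nat.beq (mulP x4 W) W4 && Nat.beq (mulP x5 W) W5 &&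
      (List.range 8).all (fun i => Nat.beq (ge T i 0) (ge W i 0) && Nat.beq (ge T i 1) (ge W1 i 0) &&
        Nat.beq (ge T i 2) (ge W2 i 0) && Nat.beq (ge T i 3) (ge W3 i 0) && Nat.beq (ge T i 4) (ge W4 i 0) &&
        Nat.beq (ge T i 5) (ge W5 i 0) && Nat.beq (ge T i 6) 0 && Nat.beq (ge T i 7) 0) &&
      Nat.beq (mulP T C) (addP oneP x)
  | _ => false

end Cfsg.Lib.TriSpec
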