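import Cfsg.Agent.Lib.TriSpec.Bridge
import Cfsg.Agent.Lib.TriSpec.CheckSmall
import Cfsg.Agent.Lib.TriSpec.CheckTwo0
import Cfsg.Agent.Lib.TriSpec.CheckTwo1
import Cfsg.Agent.Lib.TriSpec.CheckTwo2
import Cfsg.Agent.Lib.TriSpec.CheckTwo3
import Cfsg.Agent.Lib.TriSpec.CheckTwo4
import Cfsg.Agent.Lib.TriSpec.CheckTwo5
import Cfsg.Agent.Lib.TriSpec.CheckTwo6
import Cfsg.Agent.Lib.TriSpec.CheckTwo7

/-!
Norms of the elements of a group with the given Sylow subgroups acting on the natural module.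
-/

set_option autoImplicit false
set_option maxRecDepth 100000

namespace Cfsg.Lib.TriSpec

open Cfsg.Lib.Chev.D4Orth Matrix Module

variable {K : Type*} [Field K] [CharP K 2] {z : K}

theorem finrank_of_chkFactor (hz : IsZeta z) {E A B k : ℕ} (hk : k ≤ 8) (h : chkFactor E A B k = true) :
    finrank K (rg (toM8 z E)) ≤ k := by
  simp only [chkFactor, Bool.and_eq_true, List.all_eq_true, List.mem_range, Bool.or_eq_true, Nat.blt_eq] at h
  have e : toM8 z E = (Matrix.of fun (i : I8) (t : Fin k) => toK z (ge A (cd i) t)) *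
      (Matrix.of fun (t : Fin k) (j : I8) => toK z (ge B t (cd j))) := by
    rw [← Nat.eq_of_beq_eq_true h.1, toM8_mul hz]
    ext i j
    rw [Matrix.mul_apply, Matrix.mul_apply]
    show ∑ t : I8, toK z (ge A (cd i) (cd t)) * toK z (ge B (cd t) (cd j)) = _
    rw [sum_I8 fun t => toK z (ge A (cd i) t) * toK z (ge B t (cd j))]
    show ∑ t : Fin 8, toK z (ge A (cd i) t) * toK z (ge B t (cd j)) = ∑ t : Fin k, toK z (ge A (cd i) t) * toK z (ge B t (cd j))
    rw [Fin.sum_univ_eq_sum_range (fun t => toK z (ge A (cd i) t) * toK z (ge B t (cd j))) 8,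
      Fin.sum_univ_eq_sum_range (fun t => toK z (ge A (cd i) t) * toK z (ge B t (cd j))) k]
    refine (Finset.sum_subset (Finset.range_mono hk) fun t ht htk => ?_).symm
    simp only [Finset.mem_range] at ht htk
    rw [Nat.eq_of_beq_eq_true ((h.2 t ht (cd j) (cd_lt j)).resolve_left htk)]
    simp [toK]
  rw [e]
  exact finrank_rg_le _ _

theorem keyP_of_toM8 (hz : IsZeta z) {A B : ℕ} (hA : chkPacked A = true) (hB : chkPacked B = true)
    (h : toM8 z A = toM8 z B) : A = B := by
  have key : keyP A = keyP B := by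
    refine List.map_congr_left fun k hk => ?_
    rw [List.mem_range] at hk
    obtain ⟨i, hi⟩ := exists_cd (show k / 8 < 8 by omega)
    obtain ⟨j, hj⟩ := exists_cd (show k % 8 < 8 by omega)
    have e : toK z (ge A (cd i) (cd j)) = toK z (ge B (cd i) (cd j)) := congrFun (congrFun h i) j
    rw [hi, hj] at e
    have e2 : toK z (addE (ge A (k / 8) (k % 8)) (ge B (k / 8) (k % 8))) = 0 := by
      rw [toK_add (ge_lt ..) (ge_lt ..), e, CharTwo.add_self_eq_zero]
    exact Nat.eq_of_xor_eq_zero (toK_injective hz ⟨_, addE_lt (ge_lt ..) (ge_lt ..)⟩ e2)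
  rw [← Nat.eq_of_beq_eq_true hA, ← Nat.eq_of_beq_eq_true hB, key]

theorem frob_eq [Fintype K] (hK : Fintype.card K = 8) (c : K) : c ^ 8 = c := by
  rw [← hK]; exact FiniteField.pow_card c

theorem cube_root_one [Fintype K] (hK : Fintype.card K = 8) (c : K) (h : c ^ 3 = 1) : c = 1 := by
  have h0 : c ≠ 0 := fun e => by rw [e] at h; simp at h
  have h7 : c ^ 7 = 1 := mul_left_cancel₀ h0 (by rw [← pow_succ', frob_eq hK, mul_one])
  calc c = c * (c ^ 3) ^ 2 := by rw [h, one_pow, mul_one]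
    _ = c ^ 7 := by ring
    _ = 1 := h7

theorem finrank_rg_conj {P Q A : Matrix I8 I8 K} (hPQ : P * Q = 1) :
    finrank K (rg (P * A * Q)) = finrank K (rg A) := by
  have hQP : Q * P = 1 := mul_eq_one_comm.1 hPQ
  have h1 : ∀ {P Q A : Matrix I8 I8 K}, finrank K (rg (P * A * Q)) ≤ finrank K (rg A) := fun {P Q A} => by
    refine (Submodule.finrank_mono (rg_le_mul _ _)).trans ?_
    rw [rg_mul]
    exact Submodule.finrank_map_le _ _
  refine le_antisymm h1 ?_
  conv_lhs => rw [show A = Q * (P * A * Q) * P by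
    rw [← mul_assoc, ← mul_assoc, hQP, one_mul, mul_assoc, hQP, mul_one]]
  exact h1

variable {G : Type*} [Group G] (ψ : G →* GL I8 K)

/-- The matrix of a group element. -/
def mat (g : G) : Matrix I8 I8 K := (ψ g : GL I8 K)

theorem mat_mul (g h : G) : mat ψ (g * h) = mat ψ g * mat ψ h := by simp [mat]

theorem mat_one : mat ψ (1 : G) = 1 := by simp [mat]

theorem mat_pow (g : G) (n : ℕ) : mat ψ (g ^ n) = mat ψ g ^ n := by simp [mat]

theorem mat_inv_mul (g : G) : mat ψ g * mat ψ g⁻¹ = 1 := by rw [← mat_mul, mul_inv_cancel, mat_one]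

theorem mat_conj_pow (c g : G) (n : ℕ) :
    mat ψ (c * g * c⁻¹) ^ n = mat ψ c * mat ψ g ^ n * mat ψ c⁻¹ := by
  rw [← mat_pow, conj_pow, mat_mul, mat_mul, mat_pow]

theorem nrm_conj (c g : G) (m : ℕ) :
    nrm (mat ψ (c * g * c⁻¹)) m = mat ψ c * nrm (mat ψ g) m * mat ψ c⁻¹ := by
  simp only [nrm, mat_conj_pow, Finset.mul_sum, Finset.sum_mul]

theorem eq_zero_conj {c : G} {A : Matrix I8 I8 K} (h : mat ψ c * A * mat ψ c⁻¹ = 0) : A = 0 := by
  have hl : mat ψ c⁻¹ * mat ψ c = 1 := by rw [← mat_mul, inv_mul_cancel, mat_one]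
  calc A = mat ψ c⁻¹ * (mat ψ c * A * mat ψ c⁻¹) * mat ψ c := by
        rw [← mul_assoc, ← mul_assoc, hl, one_mul, mul_assoc, hl, mul_one]
    _ = 0 := by rw [h, mul_zero, zero_mul]

variable (hψ : Function.Injective ψ)
include hψ

theorem mat_injective : Function.Injective (mat ψ) := fun _ _ h => hψ (Units.ext h)

omit hψ in
/-- Every packed generator is the matrix of a group element. -/
def GenOK (z : K) : Prop := ∀ i < 16, ∃ g : G, mat ψ g = toM8 z (genTab.getD i 0)

omit hψ in
theorem exists_word (hz : IsZeta z) (hgen : GenOK ψ z) {w chain : List ℕ} (h : chkChain w chain = true) :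
    ∃ g : G, mat ψ g = toM8 z (chain.getLastD 0) := by
  simp only [chkChain, Bool.and_eq_true, List.all_eq_true, List.mem_range, Nat.blt_eq] at h
  obtain ⟨⟨hl, h0⟩, hs⟩ := h
  have key : ∀ i ≤ w.length, ∃ g : G, mat ψ g = toM8 z (chain.getD i 0) := by
    intro i
    induction i with
    | zero => exact fun _ => ⟨1, by rw [mat_one, Nat.eq_of_beq_eq_true h0, toM8_one]⟩
    | succ i ih =>
      intro hi
      obtain ⟨g, hg⟩ := ih (by omega)
      obtain ⟨hlt, hm⟩ := hs i (by omega)
      obtain ⟨s, hs'⟩ := hgen _ hlt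
      exact ⟨g * s, by rw [mat_mul, hg, hs', ← Nat.eq_of_beq_eq_true hm, toM8_mul hz]⟩
  rw [list_getLastD, show chain.length - 1 = w.length by have := Nat.eq_of_beq_eq_true hl; omega]
  exact key _ le_rfl

theorem chkDistinct_inj : ∀ (l : List ℕ), chkDistinct l = true → ∀ i < l.length, ∀ j < l.length,
    l.getD i 0 = l.getD j 0 → i = j := by
  intro l h
  have hnd : l.Nodup := by
    induction l with
    | nil => exact List.nodup_nil
    | cons a t ih =>
      simp only [chkDistinct, Bool.and_eq_true, List.all_eq_true] at h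
      refine List.nodup_cons.2 ⟨fun hm => ?_, ih h.2⟩
      simpa using h.1 a hm
  intro i hi j hj e
  simp only [List.getD_eq_getElem _ _ hi, List.getD_eq_getElem _ _ hj] at e
  exact (hnd.getElem_inj_iff).1 e

/-- A listed subgroup. -/
theorem exists_subgroup (hz : IsZeta z) [Finite G] {g h : G} {a b : ℕ} (hg : mat ψ g = toM8 z a)
    (hh : mat ψ h = toM8 z b) {els : List ℕ} {par tab : List (ℕ × ℕ)} (hpos : 0 < els.length)
    (H : chkClosed a b els par tab = true) :
    ∃ S : Subgroup G, Nat.card S = els.length ∧ ∀ x ∈ S, ∃ i < els.length, mat ψ x = toM8 z (els.getD i 0) := by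
  simp only [chkClosed, Bool.and_eq_true, List.all_eq_true, List.mem_range, Bool.or_eq_true, Nat.blt_eq] at H
  obtain ⟨⟨⟨⟨⟨h0, -⟩, -⟩, hd⟩, hp⟩, hs⟩ := H
  have key : ∀ i, ∀ j ≤ i, j < els.length → ∃ x ∈ Subgroup.closure ({g, h} : Set G), mat ψ x = toM8 z (els.getD j 0) := by
    intro i
    induction i with
    | zero =>
      intro j hj _
      rw [Nat.le_zero.1 hj]
      exact ⟨1, one_mem _, by rw [mat_one, Nat.eq_of_beq_eq_true h0, toM8_one]⟩
    | succ i ih =>
      intro j hj hjl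
      rcases Nat.lt_or_ge j (i + 1) with hlt | hge
      · exact ih j (by omega) hjl
      · have hje : j = i + 1 := by omega
        obtain ⟨⟨⟨⟨hpar, -⟩, -⟩, -⟩, -⟩ := hs j hjl
        rcases hpar with e | ⟨⟨hp1, -⟩, hm⟩
        · have := Nat.eq_of_beq_eq_true e; omega
        · obtain ⟨x, hx, hxe⟩ := ih (par.getD j (0, 0)).1 (by omega) (by omega)
          rw [← Nat.eq_of_beq_eq_true hm]
          by_cases hc : (par.getD j (0, 0)).2 = 0
          · refine ⟨x * g, mul_mem hx (Subgroup.subset_closure (Or.inl rfl)), ?_⟩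
            rw [mat_mul, hxe, hg, if_pos (by rw [hc]; rfl), toM8_mul hz]
          · refine ⟨x * h, mul_mem hx (Subgroup.subset_closure (Or.inr rfl)), ?_⟩
            rw [mat_mul, hxe, hh, if_neg (fun e => hc (Nat.eq_of_beq_eq_true e)), toM8_mul hz]
  let S := {x : G | ∃ i < els.length, mat ψ x = toM8 z (els.getD i 0)}
  have h1 : (1 : G) ∈ S := ⟨0, hpos, by rw [mat_one, Nat.eq_of_beq_eq_true h0, toM8_one]⟩
  have hmul : ∀ x ∈ Subgroup.closure ({g, h} : Set G), x ∈ S := by
    intro x hx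
    have hx' : x ∈ (Subgroup.closure ({g, h} : Set G)).toSubmonoid := hx
    rw [Subgroup.closure_toSubmonoid_of_finite] at hx'
    clear hx
    induction hx' using Submonoid.closure_induction_right with
    | one => exact h1
    | mul_right y hy s hsm ih =>
      obtain ⟨i, hi, he⟩ := ih
      obtain ⟨⟨⟨⟨-, ht1⟩, ht2⟩, hm1⟩, hm2⟩ := hs i hi
      rcases hsm with rfl | rfl
      · exact ⟨_, ht1, by rw [mat_mul, he, hg, ← Nat.eq_of_beq_eq_true hm1, toM8_mul hz]⟩
      · exact ⟨_, ht2, by rw [mat_mul, he, hh, ← Nat.eq_of_beq_eq_true hm2, toM8_mul hz]⟩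
  refine ⟨Subgroup.closure {g, h}, ?_, fun x hx => hmul x hx⟩
  choose f hf1 hf2 using fun i : Fin els.length => key i i le_rfl i.2
  refine ((Nat.card_congr (Equiv.ofBijective (fun i => (⟨f i, hf1 i⟩ : Subgroup.closure ({g, h} : Set G))) ⟨?_, ?_⟩)).symm).trans
    (Nat.card_fin _)
  · intro i j e
    have e' := congrArg (fun x : Subgroup.closure ({g, h} : Set G) => mat ψ (x : G)) e
    simp only [hf2] at e'
    have hpk : ∀ i : Fin els.length, chkPacked (els.getD i 0) = true := fun i => by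
      rw [List.getD_eq_getElem _ _ i.2]; exact hp _ (List.getElem_mem _)
    exact Fin.ext (chkDistinct_inj ψ hψ els hd i i.2 j j.2 (keyP_of_toM8 hz (hpk i) (hpk j) e'))
  · rintro ⟨x, hx⟩
    obtain ⟨i, hi, he⟩ := hmul x hx
    exact ⟨⟨i, hi⟩, Subtype.ext (mat_injective ψ hψ ((hf2 ⟨i, hi⟩).trans he.symm))⟩

omit hψ in
/-- A subgroup of full prime power order meets every class of such elements. -/
theorem conj_mem [Finite G] {p : ℕ} [Fact p.Prime] (S : Subgroup G)
    (hS : Nat.card S = p ^ (Nat.card G).factorization p) {x : G} (hx : ∃ k, x ^ p ^ k = 1) :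
    ∃ c : G, c * x * c⁻¹ ∈ S := by
  have hp : IsPGroup p ↥(Subgroup.zpowers x) := by
    obtain ⟨k, hk⟩ := hx
    obtain ⟨j, -, hj⟩ := (Nat.dvd_prime_pow Fact.out).1 (orderOf_dvd_of_pow_eq_one hk)
    exact IsPGroup.of_card (n := j) (by rw [Nat.card_zpowers, hj])
  obtain ⟨Q, hQ⟩ := hp.exists_le_sylow
  obtain ⟨c, hc⟩ := MulAction.exists_smul_eq G Q (Sylow.ofCard S hS)
  refine ⟨c, ?_⟩
  have h2 : MulAut.conj c x ∈ ((c • Q : Sylow p G) : Subgroup G) :=
    ⟨x, hQ (Subgroup.mem_zpowers x), rfl⟩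
  rw [hc] at h2
  simpa using h2

theorem halves (hz : IsZeta z) (hgen : GenOK ψ z) :
    (∀ i < 64, ∃ g : G, mat ψ g = toM8 z (halfA.getD i 0)) ∧ ∀ i < 64, ∃ g : G, mat ψ g = toM8 z (halfB.getD i 0) := by
  have hpc := pc_ok
  simp only [Bool.and_eq_true] at hpc
  obtain ⟨⟨⟨⟨⟨⟨⟨⟨⟨⟨⟨c0, c1⟩, c2⟩, c3⟩, c4⟩, c5⟩, c6⟩, c7⟩, c8⟩, c9⟩, c10⟩, c11⟩ := hpc
  have hh := halves_gen
  simp only [Bool.and_eq_true] at hh
  have key : ∀ els b : List ℕ, chkHalf els b = true → (∀ k < 6, ∃ g : G, mat ψ g = toM8 z (b.getD k 0)) →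
      ∀ n ≤ 6, ∀ i < 2 ^ n, ∃ g : G, mat ψ g = toM8 z (els.getD i 0) := by
    intro els b h hb n
    simp only [chkHalf, Bool.and_eq_true, List.all_eq_true, List.mem_range] at h
    induction n with
    | zero =>
      intro _ i hi
      obtain rfl : i = 0 := by simpa using hi
      exact ⟨1, by rw [mat_one, Nat.eq_of_beq_eq_true h.1.2, toM8_one]⟩
    | succ n ih =>
      intro hn i hi
      rcases Nat.lt_or_ge i (2 ^ n) with hlt | hge
      · exact ih (by omega) i hlt
      · rw [pow_succ] at hi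
        obtain ⟨g, hg⟩ := ih (by omega) (i - 2 ^ n) (by omega)
        obtain ⟨s, hs⟩ := hb n (by omega)
        refine ⟨g * s, ?_⟩
        have := Nat.eq_of_beq_eq_true (h.2 n (by omega) (i - 2 ^ n) (by omega))
        rw [Nat.sub_add_cancel hge] at this
        rw [mat_mul, hg, hs, ← toM8_mul hz, this]
  constructor
  · refine fun i hi => key _ _ hh.1 ?_ 6 le_rfl i hi
    intro k hk
    interval_cases k <;> first
      | exact exists_word ψ hz hgen c0 | exact exists_word ψ hz hgen c1 | exact exists_word ψ hz hgen c2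
      | exact exists_word ψ hz hgen c3 | exact exists_word ψ hz hgen c4 | exact exists_word ψ hz hgen c5
  · refine fun i hi => key _ _ hh.2 ?_ 6 le_rfl i hi
    intro k hk
    interval_cases k <;> first
      | exact exists_word ψ hz hgen c6 | exact exists_word ψ hz hgen c7 | exact exists_word ψ hz hgen c8
      | exact exists_word ψ hz hgen c9 | exact exists_word ψ hz hgen c10 | exact exists_word ψ hz hgen c11

theorem chkU_all : ∀ i < 64, ∀ j < 64, chkU (triProd (halfA.getD i 0) (halfB.getD j 0)) (64 * i + j) = true := by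
  intro i hi j hj
  have h : ∀ c < 8, chkRows c = true := by
    intro c hc
    interval_cases c
    exacts [rows_ok0, rows_ok1, rows_ok2, rows_ok3, rows_ok4, rows_ok5, rows_ok6, rows_ok7]
  have := h (i / 8) (by omega)
  simp only [chkRows, List.all_eq_true, List.mem_range] at this
  have := this (i % 8) (by omega)
  rw [show 8 * (i / 8) + i % 8 = i by omega] at this
  simp only [chkRow, List.all_eq_true, List.mem_range] at this
  exact this j hj

omit hψ in
theorem tri_halves : (∀ i < 64, IsTri (halfA.getD i 0)) ∧ ∀ i < 64, IsTri (halfB.getD i 0) := by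
  have h := halves_tri
  simp only [Bool.and_eq_true, List.all_eq_true] at h
  have hl : halfA.length = 64 ∧ halfB.length = 64 := by decide +kernel
  exact ⟨fun i hi => isTri_of_chk (h.1 _ (by rw [List.getD_eq_getElem _ _ (by omega)]; exact List.getElem_mem _)),
    fun i hi => isTri_of_chk (h.2 _ (by rw [List.getD_eq_getElem _ _ (by omega)]; exact List.getElem_mem _))⟩

omit hψ in
theorem ge_congr (hz : IsZeta z) {X Y : ℕ} (h : toM8 z X = toM8 z Y) {i j : ℕ} (hi : i < 8) (hj : j < 8) :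
    ge X i j = ge Y i j := by
  obtain ⟨x, hx⟩ := exists_cd hi
  obtain ⟨y, hy⟩ := exists_cd hj
  have e2 : toK z (ge X (cd x) (cd y)) = toK z (ge Y (cd x) (cd y)) := congrFun (congrFun h x) y
  rw [hx, hy] at e2
  have e3 : toK z (addE (ge X i j) (ge Y i j)) = 0 := by
    rw [toK_add (ge_lt ..) (ge_lt ..), e2, CharTwo.add_self_eq_zero]
  exact Nat.eq_of_xor_eq_zero (toK_injective hz ⟨_, addE_lt (ge_lt ..) (ge_lt ..)⟩ e3)

omit hψ in
theorem codeU_congr (hz : IsZeta z) {X Y : ℕ} (h : toM8 z X = toM8 z Y) : codeU X = codeU Y := by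
  simp only [codeU, ge_congr hz h (show 0 < 8 by omega) (show 1 < 8 by omega),
    ge_congr hz h (show 0 < 8 by omega) (show 2 < 8 by omega), ge_congr hz h (show 0 < 8 by omega) (show 3 < 8 by omega),
    ge_congr hz h (show 0 < 8 by omega) (show 6 < 8 by omega), ge_congr hz h (show 0 < 8 by omega) (show 5 < 8 by omega),
    ge_congr hz h (show 1 < 8 by omega) (show 2 < 8 by omega)]

omit hψ in
theorem isTri_triProd {A B : ℕ} (hA : IsTri A) (hB : IsTri B) : IsTri (triProd A B) := by
  intro i hi j hj hg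
  rw [ge_triProd hA hB hi hj, ← triAt_eq hA hB hi hj, triAt,
    show (8 * i + j) / 8 = i by omega, show (8 * i + j) % 8 = j by omega, if_neg (by simpa using hg)]
  simp

/-- The Sylow two-subgroup. -/
theorem exists_two (hz : IsZeta z) (hgen : GenOK ψ z) [Finite G] (hcard : (Nat.card G).factorization 2 = 12) :
    ∃ S : Subgroup G, Nat.card S = 2 ^ 12 ∧ ∀ u ∈ S, (mat ψ u + 1) ^ 7 = 0 ∧
      ((mat ψ u + 1) ^ 3 = 0 ∨ 1 < finrank K (rg ((mat ψ u + 1) ^ 3))) := by
  haveI : Fact (Nat.Prime 2) := ⟨Nat.prime_two⟩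
  let Tm : Submonoid G := { carrier := {g | Strict (mat ψ g)}
                            mul_mem' := fun ha hb => by show Strict _; rw [mat_mul]; exact ha.mul hb
                            one_mem' := by show Strict _; rw [mat_one]; exact strict_one }
  let T : Subgroup G := { Tm with
    inv_mem' := fun {g} hg => by
      have e : g⁻¹ = g ^ (orderOf g - 1) := inv_eq_of_mul_eq_one_right (by
        rw [← pow_succ', Nat.sub_add_cancel (orderOf_pos g), pow_orderOf_eq_one])
      show g⁻¹ ∈ Tm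
      rw [e]; exact pow_mem hg _ }
  have hT : ∀ g ∈ T, (mat ψ g + 1) ^ 7 = 0 := fun g hg => strict_pow_seven hg
  have hp : IsPGroup 2 T := fun g => ⟨3, Subtype.ext (mat_injective ψ hψ (by
    rw [SubmonoidClass.coe_pow, mat_pow, show ((1 : T) : G) = 1 from rfl, mat_one]
    have h8 : (mat ψ (g : G) + 1) ^ 8 = 0 := by rw [pow_succ, hT _ g.2, zero_mul]
    rw [show (8 : ℕ) = 2 ^ 3 from rfl, add_one_pow_two] at h8
    calc mat ψ (g : G) ^ 2 ^ 3 = mat ψ (g : G) ^ 2 ^ 3 + (1 + 1) := by rw [add_self, add_zero]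
      _ = 1 := by rw [← add_assoc, h8, zero_add]))⟩
  obtain ⟨hA, hB⟩ := halves ψ hψ hz hgen
  obtain ⟨tA, tB⟩ := tri_halves
  choose a ha using fun i : Fin 64 => hA i i.2
  choose b hb using fun i : Fin 64 => hB i i.2
  have hab : ∀ p : Fin 64 × Fin 64, mat ψ (a p.1 * b p.2) = toM8 z (triProd (halfA.getD p.1 0) (halfB.getD p.2 0)) :=
    fun p => by rw [mat_mul, ha, hb, toM8_triProd hz (tA _ p.1.2) (tB _ p.2.2)]
  have hmem : ∀ p : Fin 64 × Fin 64, a p.1 * b p.2 ∈ T := fun p => by
    show Strict _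
    rw [mat_mul, ha, hb]
    exact (strict_toM8 (tA _ p.1.2)).mul (strict_toM8 (tB _ p.2.2))
  let f : Fin 64 × Fin 64 → T := fun p => ⟨a p.1 * b p.2, hmem p⟩
  have hinj : Function.Injective f := by
    intro p q e
    have e' := congrArg (fun x : T => mat ψ (x : G)) e
    simp only [f, hab] at e'
    have hc : ∀ p : Fin 64 × Fin 64, decU (codeU (triProd (halfA.getD p.1 0) (halfB.getD p.2 0))) = 64 * (p.1 : ℕ) + p.2 :=
      fun p => by
        have := chkU_all ψ hψ p.1 p.1.2 p.2 p.2.2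
        simp only [chkU, Bool.and_eq_true] at this
        exact Nat.eq_of_beq_eq_true this.2
    have hcode := codeU_congr hz e'
    have := (hc p).symm.trans ((congrArg decU hcode).trans (hc q))
    have hp2 := p.2.2
    have hq2 := q.2.2
    exact Prod.ext (Fin.ext (by omega)) (Fin.ext (by omega))
  have hge : 2 ^ 12 ≤ Nat.card T := by
    have := Nat.card_le_card_of_injective f hinj
    simpa using this
  have hle : Nat.card T ≤ 2 ^ 12 := by
    obtain ⟨P, hP⟩ := hp.exists_le_sylow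
    calc Nat.card T ≤ Nat.card (P : Subgroup G) := Subgroup.card_le_of_le hP
      _ = 2 ^ 12 := by rw [P.card_eq_multiplicity, hcard]
  refine ⟨T, le_antisymm hle hge, fun u hu => ⟨hT u hu, ?_⟩⟩
  have hbij : Function.Bijective f := hinj.bijective_of_nat_card_le (by
    rw [Nat.card_prod, Nat.card_fin]; omega)
  obtain ⟨p, hp'⟩ := hbij.2 ⟨u, hu⟩
  have e : a p.1 * b p.2 = u := congrArg Subtype.val hp'
  rw [← e, hab]
  have hc := chkU_all ψ hψ p.1 p.1.2 p.2 p.2.2
  simp only [chkU, Bool.and_eq_true] at hc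
  exact cube_alt hz (isTri_triProd (tA _ p.1.2) (tB _ p.2.2)) hc.1

end Cfsg.Lib.TriSpec
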