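import Cfsg.Agent.Lib.TriSpec.Rep
import Cfsg.Agent.Lib.TriSpec.Frame
import Cfsg.Agent.S1067
import Cfsg.Agent.S1071

/-!
The group ³D₄(2) inside the eight-dimensional linear group over the field with eight elements.
-/

set_option autoImplicit false
set_option maxRecDepth 100000

namespace Cfsg.Lib.TriSpec

open Cfsg.Lie Cfsg.Lib.Chev Cfsg.Lib.Chev.D4Orth Matrix

/-- A packed root element. -/
def rootP (r a : ℕ) : ℕ :=
  pack ((List.range 64).map fun k =>
    addE (if Nat.beq (k / 8) (k % 8) then 1 else 0)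
      (mulE a ((ent (d4L r) (k / 8) (k % 8)).natAbs % 2)))

/-- A packed twisted generator. -/
def twP (r s t a : ℕ) : ℕ := mulP (mulP (rootP r a) (rootP s (mulE a a))) (rootP t (mulE (mulE a a) (mulE a a)))

theorem genTab_eq : ∀ i : Fin 16, genTab.getD (i : ℕ) 0 =
    if (i : ℕ) < 7 then twP 18 13 12 ((i : ℕ) + 1)
    else if (i : ℕ) < 14 then twP 5 10 11 ((i : ℕ) - 6)
    else if (i : ℕ) = 14 then rootP 14 1 else rootP 9 1 := by
  decide +kernel

variable {K : Type*} [Field K] [CharP K 2] {z : K}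

theorem toM8_rootP (hz : IsZeta z) (r : ℕ) {a : ℕ} (ha : a < 8) : toM8 z (rootP r a) = rootNat r (toK z a) := by
  ext i j
  show toK z (ge (rootP r a) (cd i) (cd j)) = (1 + toK z a • mM K (d4L r)) i j
  have hi := cd_lt i
  have hj := cd_lt j
  rw [ge, rootP, pack_get _ (by
    intro x hx
    obtain ⟨k, -, rfl⟩ := List.mem_map.1 hx
    exact addE_lt (by split_ifs <;> omega) (mulE_lt _ _)) _ (by simp; omega)]
  simp only [List.getD_eq_getElem?_getD, List.getElem?_map,
    List.getElem?_range (show 8 * cd i + cd j < 64 by omega), Option.map_some, Option.getD_some,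
    show (8 * cd i + cd j) / 8 = cd i by omega, show (8 * cd i + cd j) % 8 = cd j by omega]
  rw [toK_add (by split_ifs <;> omega) (mulE_lt _ _), toK_mul hz ha (by omega), Matrix.add_apply, Matrix.smul_apply,
    smul_eq_mul]
  congr 1
  · rw [Matrix.one_apply]
    by_cases e : i = j
    · simp [e, toK]
    · have hne : cd i ≠ cd j := cd_injective.ne e
      simp [e, hne, toK]
  · congr 1
    show _ = ((ent (d4L r) (cd i) (cd j) : ℤ) : K)
    set n := ent (d4L r) (cd i) (cd j)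
    have e2 : ((n : ℤ) : K) = ((n.natAbs % 2 : ℕ) : K) := by
      have hnat : ∀ k : ℕ, (k : K) = ((k % 2 : ℕ) : K) := fun k => by
        conv_lhs => rw [← Nat.mod_add_div k 2]
        push_cast
        rw [show (2 : K) = 0 from CharTwo.two_eq_zero, zero_mul, add_zero]
      rcases Int.natAbs_eq n with h | h <;> conv_lhs => rw [h]
      · rw [Int.cast_natCast]; exact hnat _
      · rw [Int.cast_neg, Int.cast_natCast, CharTwo.neg_eq]; exact hnat _
    rw [e2]
    rcases Nat.mod_two_eq_zero_or_one n.natAbs with h | h <;> rw [h] <;> simp [toK]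

theorem toM8_twP (hz : IsZeta z) (r s t : ℕ) {a : ℕ} (ha : a < 8) :
    toM8 z (twP r s t a) = rootNat r (toK z a) * rootNat s (toK z a ^ 2) * rootNat t (toK z a ^ 4) := by
  rw [twP, toM8_mul hz, toM8_mul hz, toM8_rootP hz r ha, toM8_rootP hz s (mulE_lt _ _),
    toM8_rootP hz t (mulE_lt _ _), toK_mul hz (mulE_lt _ _) (mulE_lt _ _), toK_mul hz ha ha, ← sq, ← sq, ← pow_mul]

/-- The natural representation of ³D₄(2). -/
theorem exists_rep [Fintype K] (hK : Fintype.card K = 8) (hz : IsZeta z) :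
    ∃ ψ : ↥(Cfsg.Lie.twistedD4 K 2) →* GL I8 K, Function.Injective ψ ∧ GenOK ψ z := by
  obtain ⟨Φ, hΦ⟩ := exists_natural (K := K)
  have hxg : ∀ r, r < 24 → ∀ t : K, (xg certD4C r t : GL chevD4.Idx K) ∈ chevD4.group K := fun r hr t =>
    Subgroup.subset_closure ⟨⟨r, hr⟩, t, by rw [coe_xg, ChevalleyDatum.x, dif_pos (show r < chevD4.nroots from hr)]⟩
  have hle : Cfsg.Lie.twistedD4 K 2 ≤ chevD4.group K := by
    rw [Cfsg.Lie.twistedD4, ChevalleyDatum.genSubgroup, Subgroup.closure_le]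
    rintro g ⟨w, hw, hg⟩
    have key : g = (w.map fun p => xg certD4C p.1 p.2).prod := by
      refine Units.ext (hg.trans ?_)
      rw [ChevalleyDatum.wordMat, ← Units.coeHom_apply, map_list_prod, List.map_map]
      rfl
    rw [key]
    refine list_prod_mem fun x hx => ?_
    obtain ⟨p, hp, rfl⟩ := List.mem_map.1 hx
    refine hxg _ ?_ _
    rcases hw with ⟨t, -, r, hr, rfl⟩ | ⟨t, rs, hr, rfl⟩
    · fin_cases hr <;> simp at hp <;> subst hp <;> simp [d4p2, d4m2]
    · fin_cases hr <;> simp at hp <;> rcases hp with rfl | rfl | rfl <;> simp [d4p1, d4p3, d4p4, d4m1, d4m3, d4m4]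
  let ψ : ↥(Cfsg.Lie.twistedD4 K 2) →* GL I8 K := Φ.comp (Subgroup.inclusion hle)
  have hmem : ∀ (r : ℕ) (hr : r < 24) (t : K), mat Φ ⟨xg certD4C r t, hxg r hr t⟩ = rootNat r t := fun r hr t =>
    hΦ r hr t ⟨_, hxg r hr t⟩ rfl
  have hone : ∀ r ∈ [d4p2, d4m2], ∀ (hr : r < 24), ∃ g : ↥(Cfsg.Lie.twistedD4 K 2), mat ψ g = rootNat r 1 := by
    intro r hrm hr
    have h : (xg certD4C r (1 : K) : GL chevD4.Idx K) ∈ Cfsg.Lie.twistedD4 K 2 :=
      Subgroup.subset_closure ⟨[(r, 1)], Or.inl ⟨1, one_pow _, r, hrm, rfl⟩, by simp [ChevalleyDatum.wordMat, coe_xg]⟩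
    exact ⟨⟨_, h⟩, hmem r hr 1⟩
  have htri : ∀ r s u, (r, s, u) ∈ [(d4p1, d4p3, d4p4), (d4m1, d4m3, d4m4)] → r < 24 → s < 24 → u < 24 → ∀ t : K,
      ∃ g : ↥(Cfsg.Lie.twistedD4 K 2), mat ψ g = rootNat r t * rootNat s (t ^ 2) * rootNat u (t ^ 4) := by
    intro r s u hrm hr hs hu t
    have h : (xg certD4C r t * xg certD4C s (t ^ 2) * xg certD4C u (t ^ 4) : GL chevD4.Idx K) ∈
        Cfsg.Lie.twistedD4 K 2 :=
      Subgroup.subset_closure ⟨[(r, t), (s, t ^ 2), (u, t ^ 4)], Or.inr ⟨t, _, hrm, rfl⟩, by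
        simp [ChevalleyDatum.wordMat, coe_xg, mul_assoc]⟩
    refine ⟨⟨_, h⟩, ?_⟩
    have e : Subgroup.inclusion hle ⟨_, h⟩ = (⟨_, hxg r hr t⟩ * ⟨_, hxg s hs (t ^ 2)⟩ * ⟨_, hxg u hu (t ^ 4)⟩ :
        ↥(chevD4.group K)) := Subtype.ext rfl
    show mat Φ (Subgroup.inclusion hle ⟨_, h⟩) = _
    rw [e, mat_mul, mat_mul, hmem r hr, hmem s hs, hmem u hu]
  have hgen : GenOK ψ z := by
    intro i hi
    rw [genTab_eq ⟨i, hi⟩]
    simp only
    split_ifs with h7 h14 h15
    · rw [toM8_twP hz 18 13 12 (show i + 1 < 8 by omega)]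
      exact htri 18 13 12 (by decide) (by omega) (by omega) (by omega) _
    · rw [toM8_twP hz 5 10 11 (show i - 6 < 8 by omega)]
      exact htri 5 10 11 (by decide) (by omega) (by omega) (by omega) _
    · rw [toM8_rootP hz 14 (show 1 < 8 by omega), show toK z 1 = (1 : K) from rfl]
      exact hone 14 (by decide) (by omega)
    · rw [toM8_rootP hz 9 (show 1 < 8 by omega), show toK z 1 = (1 : K) from rfl]
      exact hone 9 (by decide) (by omega)
  refine ⟨ψ, ?_, hgen⟩
  haveI hsimple := (Cfsg.Agent.S1071.result (K := K) (q := 2) (Nat.prime_two.isPrimePow) (by rw [hK]; rfl)).1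
  rcases hsimple.eq_bot_or_eq_top_of_normal ψ.ker inferInstance with h | h
  · exact (MonoidHom.ker_eq_bot_iff ψ).1 h
  · exfalso
    obtain ⟨g, hg⟩ := hgen 14 (by omega)
    have hψ1 : ψ g = 1 := MonoidHom.mem_ker.1 (h ▸ Subgroup.mem_top g)
    rw [mat, hψ1, Units.val_one, genTab_eq ⟨14, by omega⟩] at hg
    have e := congrFun (congrFun hg (Sum.inl 1)) (Sum.inl 2)
    have e' : ge (rootP 14 1) 1 2 = 1 := by decide +kernel
    simp only [Matrix.one_apply, show (Sum.inl 1 : I8) ≠ Sum.inl 2 by decide, if_false] at e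
    change (0 : K) = toK z (ge (rootP 14 1) 1 2) at e
    rw [e'] at e
    exact zero_ne_one e

end Cfsg.Lib.TriSpec
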