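import Cfsg.Agent.Lib.Chev.D4Rep

/-!
Packed arithmetic for eight by eight matrices over the field with eight elements.
-/

set_option autoImplicit false
set_option maxRecDepth 100000

namespace Cfsg.Lib.TriSpec

open Cfsg.Lib.Chev.D4Orth Matrix

/-- Addition of field codes. -/
def addE (a b : ℕ) : ℕ := Nat.xor a b

/-- Multiplication of field codes. -/
def mulE (a b : ℕ) : ℕ := Nat.land (Nat.shiftRight 2821848294356612419217921029917578219971947684264937521152 (3 * (8 * a + b))) 7

/-- An entry of a packed matrix. -/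
def ge (A i j : ℕ) : ℕ := Nat.land (Nat.shiftRight A (3 * (8 * i + j))) 7

/-- The sum of eight codes. -/
def sum8 (f : ℕ → ℕ) : ℕ :=
  addE (addE (addE (f 0) (f 1)) (addE (f 2) (f 3))) (addE (addE (f 4) (f 5)) (addE (f 6) (f 7)))

/-- An entry of a product. -/
def mulAt (A B i j : ℕ) : ℕ := sum8 fun k => mulE (ge A i k) (ge B k j)

/-- Packing of sixty-four codes. -/
def pack : List ℕ → ℕ
  | [] => 0
  | a :: l => a + 8 * pack l

/-- The product of packed matrices. -/
def mulP (A B : ℕ) : ℕ := pack ((List.range 64).map fun k => mulAt A B (k / 8) (k % 8))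

/-- The sum of packed matrices. -/
def addP (A B : ℕ) : ℕ := Nat.xor A B

/-- The identity matrix. -/
def oneP : ℕ := pack ((List.range 64).map fun k => if k / 8 = k % 8 then 1 else 0)

theorem pack_get : ∀ (l : List ℕ), (∀ a ∈ l, a < 8) → ∀ k, k < l.length →
    Nat.land (Nat.shiftRight (pack l) (3 * k)) 7 = l.getD k 0
  | a :: l, h, k, hk => by
    have ha : a < 8 := h a (by simp)
    show ((a + 8 * pack l) >>> (3 * k)) &&& 7 = _
    rw [Nat.shiftRight_eq_div_pow, show (7 : ℕ) = 2 ^ 3 - 1 from rfl, Nat.and_two_pow_sub_one_eq_mod]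
    cases k with
    | zero => simp [Nat.mod_eq_of_lt ha]
    | succ k =>
      rw [show 3 * (k + 1) = 3 + 3 * k by ring, pow_add, ← Nat.div_div_eq_div_mul,
        show (a + 8 * pack l) / 2 ^ 3 = pack l by rw [show (2 : ℕ) ^ 3 = 8 from rfl]; omega,
        List.getD_cons_succ, ← pack_get l (fun x hx => h x (by simp [hx])) k (by simpa using hk)]
      show _ = (pack l >>> (3 * k)) &&& 7
      rw [Nat.shiftRight_eq_div_pow, show (7 : ℕ) = 2 ^ 3 - 1 from rfl, Nat.and_two_pow_sub_one_eq_mod]

theorem mulE_lt (a b : ℕ) : mulE a b < 8 := by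
  show (_ &&& 7) < 8
  exact Nat.lt_succ_of_le Nat.and_le_right

theorem ge_lt (A i j : ℕ) : ge A i j < 8 := by
  show (_ &&& 7) < 8
  exact Nat.lt_succ_of_le Nat.and_le_right

theorem addE_lt {a b : ℕ} (ha : a < 8) (hb : b < 8) : addE a b < 8 :=
  Nat.xor_lt_two_pow (n := 3) ha hb

theorem sum8_lt {f : ℕ → ℕ} (h : ∀ k, f k < 8) : sum8 f < 8 :=
  addE_lt (addE_lt (addE_lt (h _) (h _)) (addE_lt (h _) (h _)))
    (addE_lt (addE_lt (h _) (h _)) (addE_lt (h _) (h _)))

theorem ge_mulP (A B : ℕ) {i j : ℕ} (hi : i < 8) (hj : j < 8) : ge (mulP A B) i j = mulAt A B i j := by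
  rw [ge, mulP, pack_get _ (by
    intro a ha
    obtain ⟨k, -, rfl⟩ := List.mem_map.1 ha
    exact sum8_lt fun _ => mulE_lt _ _) _ (by simp; omega)]
  simp [List.getD_eq_getElem?_getD, List.getElem?_map, List.getElem?_range (show 8 * i + j < 64 by omega),
    show (8 * i + j) / 8 = i by omega, show (8 * i + j) % 8 = j by omega]

theorem ge_addP (A B i j : ℕ) : ge (addP A B) i j = addE (ge A i j) (ge B i j) := by
  show ((A ^^^ B) >>> _) &&& 7 = ((A >>> _) &&& 7) ^^^ ((B >>> _) &&& 7)
  rw [Nat.shiftRight_xor_distrib, Nat.and_xor_distrib_right]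

theorem ge_oneP : ∀ i j : Fin 8, ge oneP i j = if i = j then 1 else 0 := by decide +kernel

/-! ### The field -/

variable {K : Type*} [Field K]

/-- A root of the defining polynomial. -/
def IsZeta (z : K) : Prop := z * z * z = z + 1

theorem exists_zeta [Fintype K] (hK : Fintype.card K = 8) : ∃ z : K, IsZeta z := by
  classical
  haveI : CharP K 2 := charP_of_card_eq_prime_pow (f := 3) hK
  have h2 : (2 : K) = 0 := CharTwo.two_eq_zero
  obtain ⟨z, hz⟩ := Fintype.exists_ne_of_one_lt_card (α := Kˣ) (by rw [Fintype.card_units, hK]; norm_num) 1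
  have h7 : (z : K) ^ 7 = 1 := by
    have := pow_card_eq_one (G := Kˣ) (x := z)
    rw [Fintype.card_units, hK] at this
    simpa [← Units.val_pow_eq_pow_val] using congrArg Units.val this
  have hne : (z : K) - 1 ≠ 0 := fun e => hz (Units.ext (sub_eq_zero.1 e))
  have h : (((z : K) ^ 3 + z + 1) * ((z : K) ^ 3 + z ^ 2 + 1)) * ((z : K) - 1) = 0 := by
    linear_combination h7 + ((z : K) ^ 4 - (z : K) ^ 3) * h2
  rcases mul_eq_zero.1 ((mul_eq_zero.1 h).resolve_right hne) with e | e
  · exact ⟨z, by unfold IsZeta; linear_combination e - ((z : K) + 1) * h2⟩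
  · refine ⟨(z : K)⁻¹, ?_⟩
    unfold IsZeta
    have hz0 : (z : K) ≠ 0 := z.ne_zero
    field_simp
    linear_combination e - ((z : K) ^ 3 + (z : K) ^ 2) * h2

/-- The element with a given code. -/
def toK (z : K) : ℕ → K
  | 1 => 1
  | 2 => z
  | 3 => z + 1
  | 4 => z * z
  | 5 => z * z + 1
  | 6 => z * z + z
  | 7 => z * z + z + 1
  | _ => 0

variable [CharP K 2] {z : K}

theorem toK_add' : ∀ a b : Fin 8, toK z (addE a b) = toK z a + toK z b := by
  have h2 : (2 : K) = 0 := CharTwo.two_eq_zero
  intro a b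
  exact match a, b with
  | 0, 0 => by
    show (0 : K) = 0 + 0
    linear_combination (-(0 : K)) * h2
  | 0, 1 => by
    show (1 : K) = 0 + 1
    linear_combination (-(0 : K)) * h2
  | 0, 2 => by
    show (z : K) = 0 + z
    linear_combination (-(0 : K)) * h2
  | 0, 3 => by
    show ((z + 1) : K) = 0 + (z + 1)
    linear_combination (-(0 : K)) * h2
  | 0, 4 => by
    show ((z * z) : K) = 0 + (z * z)
    linear_combination (-(0 : K)) * h2
  | 0, 5 => by
    show ((z * z + 1) : K) = 0 + (z * z + 1)
    linear_combination (-(0 : K)) * h2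
  | 0, 6 => by
    show ((z * z + z) : K) = 0 + (z * z + z)
    linear_combination (-(0 : K)) * h2
  | 0, 7 => by
    show ((z * z + z + 1) : K) = 0 + (z * z + z + 1)
    linear_combination (-(0 : K)) * h2
  | 1, 0 => by
    show (1 : K) = 1 + 0
    linear_combination (-(0 : K)) * h2
  | 1, 1 => by
    show (0 : K) = 1 + 1
    linear_combination (-((1 : K))) * h2
  | 1, 2 => by
    show ((z + 1) : K) = 1 + z
    linear_combination (-(0 : K)) * h2
  | 1, 3 => by
    show (z : K) = 1 + (z + 1)
    linear_combination (-((1 : K))) * h2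
  | 1, 4 => by
    show ((z * z + 1) : K) = 1 + (z * z)
    linear_combination (-(0 : K)) * h2
  | 1, 5 => by
    show ((z * z) : K) = 1 + (z * z + 1)
    linear_combination (-((1 : K))) * h2
  | 1, 6 => by
    show ((z * z + z + 1) : K) = 1 + (z * z + z)
    linear_combination (-(0 : K)) * h2
  | 1, 7 => by
    show ((z * z + z) : K) = 1 + (z * z + z + 1)
    linear_combination (-((1 : K))) * h2
  | 2, 0 => by
    show (z : K) = z + 0
    linear_combination (-(0 : K)) * h2
  | 2, 1 => by
    show ((z + 1) : K) = z + 1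
    linear_combination (-(0 : K)) * h2
  | 2, 2 => by
    show (0 : K) = z + z
    linear_combination (-((1 : K) * z)) * h2
  | 2, 3 => by
    show (1 : K) = z + (z + 1)
    linear_combination (-((1 : K) * z)) * h2
  | 2, 4 => by
    show ((z * z + z) : K) = z + (z * z)
    linear_combination (-(0 : K)) * h2
  | 2, 5 => by
    show ((z * z + z + 1) : K) = z + (z * z + 1)
    linear_combination (-(0 : K)) * h2
  | 2, 6 => by
    show ((z * z) : K) = z + (z * z + z)
    linear_combination (-((1 : K) * z)) * h2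
  | 2, 7 => by
    show ((z * z + 1) : K) = z + (z * z + z + 1)
    linear_combination (-((1 : K) * z)) * h2
  | 3, 0 => by
    show ((z + 1) : K) = (z + 1) + 0
    linear_combination (-(0 : K)) * h2
  | 3, 1 => by
    show (z : K) = (z + 1) + 1
    linear_combination (-((1 : K))) * h2
  | 3, 2 => by
    show (1 : K) = (z + 1) + z
    linear_combination (-((1 : K) * z)) * h2
  | 3, 3 => by
    show (0 : K) = (z + 1) + (z + 1)
    linear_combination (-((1 : K) + (1 : K) * z)) * h2
  | 3, 4 => by
    show ((z * z + z + 1) : K) = (z + 1) + (z * z)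
    linear_combination (-(0 : K)) * h2
  | 3, 5 => by
    show ((z * z + z) : K) = (z + 1) + (z * z + 1)
    linear_combination (-((1 : K))) * h2
  | 3, 6 => by
    show ((z * z + 1) : K) = (z + 1) + (z * z + z)
    linear_combination (-((1 : K) * z)) * h2
  | 3, 7 => by
    show ((z * z) : K) = (z + 1) + (z * z + z + 1)
    linear_combination (-((1 : K) + (1 : K) * z)) * h2
  | 4, 0 => by
    show ((z * z) : K) = (z * z) + 0
    linear_combination (-(0 : K)) * h2
  | 4, 1 => by
    show ((z * z + 1) : K) = (z * z) + 1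
    linear_combination (-(0 : K)) * h2
  | 4, 2 => by
    show ((z * z + z) : K) = (z * z) + z
    linear_combination (-(0 : K)) * h2
  | 4, 3 => by
    show ((z * z + z + 1) : K) = (z * z) + (z + 1)
    linear_combination (-(0 : K)) * h2
  | 4, 4 => by
    show (0 : K) = (z * z) + (z * z)
    linear_combination (-((1 : K) * z * z)) * h2
  | 4, 5 => by
    show (1 : K) = (z * z) + (z * z + 1)
    linear_combination (-((1 : K) * z * z)) * h2
  | 4, 6 => by
    show (z : K) = (z * z) + (z * z + z)
    linear_combination (-((1 : K) * z * z)) * h2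
  | 4, 7 => by
    show ((z + 1) : K) = (z * z) + (z * z + z + 1)
    linear_combination (-((1 : K) * z * z)) * h2
  | 5, 0 => by
    show ((z * z + 1) : K) = (z * z + 1) + 0
    linear_combination (-(0 : K)) * h2
  | 5, 1 => by
    show ((z * z) : K) = (z * z + 1) + 1
    linear_combination (-((1 : K))) * h2
  | 5, 2 => by
    show ((z * z + z + 1) : K) = (z * z + 1) + z
    linear_combination (-(0 : K)) * h2
  | 5, 3 => by
    show ((z * z + z) : K) = (z * z + 1) + (z + 1)
    linear_combination (-((1 : K))) * h2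
  | 5, 4 => by
    show (1 : K) = (z * z + 1) + (z * z)
    linear_combination (-((1 : K) * z * z)) * h2
  | 5, 5 => by
    show (0 : K) = (z * z + 1) + (z * z + 1)
    linear_combination (-((1 : K) + (1 : K) * z * z)) * h2
  | 5, 6 => by
    show ((z + 1) : K) = (z * z + 1) + (z * z + z)
    linear_combination (-((1 : K) * z * z)) * h2
  | 5, 7 => by
    show (z : K) = (z * z + 1) + (z * z + z + 1)
    linear_combination (-((1 : K) + (1 : K) * z * z)) * h2
  | 6, 0 => by
    show ((z * z + z) : K) = (z * z + z) + 0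
    linear_combination (-(0 : K)) * h2
  | 6, 1 => by
    show ((z * z + z + 1) : K) = (z * z + z) + 1
    linear_combination (-(0 : K)) * h2
  | 6, 2 => by
    show ((z * z) : K) = (z * z + z) + z
    linear_combination (-((1 : K) * z)) * h2
  | 6, 3 => by
    show ((z * z + 1) : K) = (z * z + z) + (z + 1)
    linear_combination (-((1 : K) * z)) * h2
  | 6, 4 => by
    show (z : K) = (z * z + z) + (z * z)
    linear_combination (-((1 : K) * z * z)) * h2
  | 6, 5 => by
    show ((z + 1) : K) = (z * z + z) + (z * z + 1)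
    linear_combination (-((1 : K) * z * z)) * h2
  | 6, 6 => by
    show (0 : K) = (z * z + z) + (z * z + z)
    linear_combination (-((1 : K) * z + (1 : K) * z * z)) * h2
  | 6, 7 => by
    show (1 : K) = (z * z + z) + (z * z + z + 1)
    linear_combination (-((1 : K) * z + (1 : K) * z * z)) * h2
  | 7, 0 => by
    show ((z * z + z + 1) : K) = (z * z + z + 1) + 0
    linear_combination (-(0 : K)) * h2
  | 7, 1 => by
    show ((z * z + z) : K) = (z * z + z + 1) + 1
    linear_combination (-((1 : K))) * h2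
  | 7, 2 => by
    show ((z * z + 1) : K) = (z * z + z + 1) + z
    linear_combination (-((1 : K) * z)) * h2
  | 7, 3 => by
    show ((z * z) : K) = (z * z + z + 1) + (z + 1)
    linear_combination (-((1 : K) + (1 : K) * z)) * h2
  | 7, 4 => by
    show ((z + 1) : K) = (z * z + z + 1) + (z * z)
    linear_combination (-((1 : K) * z * z)) * h2
  | 7, 5 => by
    show (z : K) = (z * z + z + 1) + (z * z + 1)
    linear_combination (-((1 : K) + (1 : K) * z * z)) * h2
  | 7, 6 => by
    show (1 : K) = (z * z + z + 1) + (z * z + z)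
    linear_combination (-((1 : K) * z + (1 : K) * z * z)) * h2
  | 7, 7 => by
    show (0 : K) = (z * z + z + 1) + (z * z + z + 1)
    linear_combination (-((1 : K) + (1 : K) * z + (1 : K) * z * z)) * h2

theorem toK_add {a b : ℕ} (ha : a < 8) (hb : b < 8) : toK z (addE a b) = toK z a + toK z b :=
  toK_add' ⟨a, ha⟩ ⟨b, hb⟩

theorem toK_mul' (hz : IsZeta z) : ∀ a b : Fin 8, toK z (mulE a b) = toK z a * toK z b := by
  unfold IsZeta at hz
  have h2 : (2 : K) = 0 := CharTwo.two_eq_zero
  intro a b
  exact match a, b with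
  | 0, 0 => by
    show (0 : K) = 0 * 0
    linear_combination (-(0 : K)) * hz + (-(0 : K)) * h2
  | 0, 1 => by
    show (0 : K) = 0 * 1
    linear_combination (-(0 : K)) * hz + (-(0 : K)) * h2
  | 0, 2 => by
    show (0 : K) = 0 * z
    linear_combination (-(0 : K)) * hz + (-(0 : K)) * h2
  | 0, 3 => by
    show (0 : K) = 0 * (z + 1)
    linear_combination (-(0 : K)) * hz + (-(0 : K)) * h2
  | 0, 4 => by
    show (0 : K) = 0 * (z * z)
    linear_combination (-(0 : K)) * hz + (-(0 : K)) * h2
  | 0, 5 => by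
    show (0 : K) = 0 * (z * z + 1)
    linear_combination (-(0 : K)) * hz + (-(0 : K)) * h2
  | 0, 6 => by
    show (0 : K) = 0 * (z * z + z)
    linear_combination (-(0 : K)) * hz + (-(0 : K)) * h2
  | 0, 7 => by
    show (0 : K) = 0 * (z * z + z + 1)
    linear_combination (-(0 : K)) * hz + (-(0 : K)) * h2
  | 1, 0 => by
    show (0 : K) = 1 * 0
    linear_combination (-(0 : K)) * hz + (-(0 : K)) * h2
  | 1, 1 => by
    show (1 : K) = 1 * 1
    linear_combination (-(0 : K)) * hz + (-(0 : K)) * h2
  | 1, 2 => by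
    show (z : K) = 1 * z
    linear_combination (-(0 : K)) * hz + (-(0 : K)) * h2
  | 1, 3 => by
    show ((z + 1) : K) = 1 * (z + 1)
    linear_combination (-(0 : K)) * hz + (-(0 : K)) * h2
  | 1, 4 => by
    show ((z * z) : K) = 1 * (z * z)
    linear_combination (-(0 : K)) * hz + (-(0 : K)) * h2
  | 1, 5 => by
    show ((z * z + 1) : K) = 1 * (z * z + 1)
    linear_combination (-(0 : K)) * hz + (-(0 : K)) * h2
  | 1, 6 => by
    show ((z * z + z) : K) = 1 * (z * z + z)
    linear_combination (-(0 : K)) * hz + (-(0 : K)) * h2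
  | 1, 7 => by
    show ((z * z + z + 1) : K) = 1 * (z * z + z + 1)
    linear_combination (-(0 : K)) * hz + (-(0 : K)) * h2
  | 2, 0 => by
    show (0 : K) = z * 0
    linear_combination (-(0 : K)) * hz + (-(0 : K)) * h2
  | 2, 1 => by
    show (z : K) = z * 1
    linear_combination (-(0 : K)) * hz + (-(0 : K)) * h2
  | 2, 2 => by
    show ((z * z) : K) = z * z
    linear_combination (-(0 : K)) * hz + (-(0 : K)) * h2
  | 2, 3 => by
    show ((z * z + z) : K) = z * (z + 1)
    linear_combination (-(0 : K)) * hz + (-(0 : K)) * h2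
  | 2, 4 => by
    show ((z + 1) : K) = z * (z * z)
    linear_combination (-((1 : K))) * hz + (-(0 : K)) * h2
  | 2, 5 => by
    show (1 : K) = z * (z * z + 1)
    linear_combination (-((1 : K))) * hz + (-((1 : K) * z)) * h2
  | 2, 6 => by
    show ((z * z + z + 1) : K) = z * (z * z + z)
    linear_combination (-((1 : K))) * hz + (-(0 : K)) * h2
  | 2, 7 => by
    show ((z * z + 1) : K) = z * (z * z + z + 1)
    linear_combination (-((1 : K))) * hz + (-((1 : K) * z)) * h2
  | 3, 0 => by
    show (0 : K) = (z + 1) * 0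
    linear_combination (-(0 : K)) * hz + (-(0 : K)) * h2
  | 3, 1 => by
    show ((z + 1) : K) = (z + 1) * 1
    linear_combination (-(0 : K)) * hz + (-(0 : K)) * h2
  | 3, 2 => by
    show ((z * z + z) : K) = (z + 1) * z
    linear_combination (-(0 : K)) * hz + (-(0 : K)) * h2
  | 3, 3 => by
    show ((z * z + 1) : K) = (z + 1) * (z + 1)
    linear_combination (-(0 : K)) * hz + (-((1 : K) * z)) * h2
  | 3, 4 => by
    show ((z * z + z + 1) : K) = (z + 1) * (z * z)
    linear_combination (-((1 : K))) * hz + (-(0 : K)) * h2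
  | 3, 5 => by
    show ((z * z) : K) = (z + 1) * (z * z + 1)
    linear_combination (-((1 : K))) * hz + (-((1 : K) + (1 : K) * z)) * h2
  | 3, 6 => by
    show (1 : K) = (z + 1) * (z * z + z)
    linear_combination (-((1 : K))) * hz + (-((1 : K) * z + (1 : K) * z * z)) * h2
  | 3, 7 => by
    show (z : K) = (z + 1) * (z * z + z + 1)
    linear_combination (-((1 : K))) * hz + (-((1 : K) + (1 : K) * z + (1 : K) * z * z)) * h2
  | 4, 0 => by
    show (0 : K) = (z * z) * 0
    linear_combination (-(0 : K)) * hz + (-(0 : K)) * h2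
  | 4, 1 => by
    show ((z * z) : K) = (z * z) * 1
    linear_combination (-(0 : K)) * hz + (-(0 : K)) * h2
  | 4, 2 => by
    show ((z + 1) : K) = (z * z) * z
    linear_combination (-((1 : K))) * hz + (-(0 : K)) * h2
  | 4, 3 => by
    show ((z * z + z + 1) : K) = (z * z) * (z + 1)
    linear_combination (-((1 : K))) * hz + (-(0 : K)) * h2
  | 4, 4 => by
    show ((z * z + z) : K) = (z * z) * (z * z)
    linear_combination (-((1 : K) * z)) * hz + (-(0 : K)) * h2
  | 4, 5 => by
    show (z : K) = (z * z) * (z * z + 1)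
    linear_combination (-((1 : K) * z)) * hz + (-((1 : K) * z * z)) * h2
  | 4, 6 => by
    show ((z * z + 1) : K) = (z * z) * (z * z + z)
    linear_combination (-((1 : K) + (1 : K) * z)) * hz + (-((1 : K) * z)) * h2
  | 4, 7 => by
    show (1 : K) = (z * z) * (z * z + z + 1)
    linear_combination (-((1 : K) + (1 : K) * z)) * hz + (-((1 : K) * z + (1 : K) * z * z)) * h2
  | 5, 0 => by
    show (0 : K) = (z * z + 1) * 0
    linear_combination (-(0 : K)) * hz + (-(0 : K)) * h2
  | 5, 1 => by
    show ((z * z + 1) : K) = (z * z + 1) * 1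
    linear_combination (-(0 : K)) * hz + (-(0 : K)) * h2
  | 5, 2 => by
    show (1 : K) = (z * z + 1) * z
    linear_combination (-((1 : K))) * hz + (-((1 : K) * z)) * h2
  | 5, 3 => by
    show ((z * z) : K) = (z * z + 1) * (z + 1)
    linear_combination (-((1 : K))) * hz + (-((1 : K) + (1 : K) * z)) * h2
  | 5, 4 => by
    show (z : K) = (z * z + 1) * (z * z)
    linear_combination (-((1 : K) * z)) * hz + (-((1 : K) * z * z)) * h2
  | 5, 5 => by
    show ((z * z + z + 1) : K) = (z * z + 1) * (z * z + 1)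
    linear_combination (-((1 : K) * z)) * hz + (-((1 : K) * z * z)) * h2
  | 5, 6 => by
    show ((z + 1) : K) = (z * z + 1) * (z * z + z)
    linear_combination (-((1 : K) + (1 : K) * z)) * hz + (-((1 : K) * z + (1 : K) * z * z)) * h2
  | 5, 7 => by
    show ((z * z + z) : K) = (z * z + 1) * (z * z + z + 1)
    linear_combination (-((1 : K) + (1 : K) * z)) * hz + (-((1 : K) + (1 : K) * z + (1 : K) * z * z)) * h2
  | 6, 0 => by
    show (0 : K) = (z * z + z) * 0
    linear_combination (-(0 : K)) * hz + (-(0 : K)) * h2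
  | 6, 1 => by
    show ((z * z + z) : K) = (z * z + z) * 1
    linear_combination (-(0 : K)) * hz + (-(0 : K)) * h2
  | 6, 2 => by
    show ((z * z + z + 1) : K) = (z * z + z) * z
    linear_combination (-((1 : K))) * hz + (-(0 : K)) * h2
  | 6, 3 => by
    show (1 : K) = (z * z + z) * (z + 1)
    linear_combination (-((1 : K))) * hz + (-((1 : K) * z + (1 : K) * z * z)) * h2
  | 6, 4 => by
    show ((z * z + 1) : K) = (z * z + z) * (z * z)
    linear_combination (-((1 : K) + (1 : K) * z)) * hz + (-((1 : K) * z)) * h2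
  | 6, 5 => by
    show ((z + 1) : K) = (z * z + z) * (z * z + 1)
    linear_combination (-((1 : K) + (1 : K) * z)) * hz + (-((1 : K) * z + (1 : K) * z * z)) * h2
  | 6, 6 => by
    show (z : K) = (z * z + z) * (z * z + z)
    linear_combination (-((2 : K) + (1 : K) * z)) * hz + (-((1 : K) + (1 : K) * z + (1 : K) * z * z)) * h2
  | 6, 7 => by
    show ((z * z) : K) = (z * z + z) * (z * z + z + 1)
    linear_combination (-((2 : K) + (1 : K) * z)) * hz + (-((1 : K) + (2 : K) * z + (1 : K) * z * z)) * h2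
  | 7, 0 => by
    show (0 : K) = (z * z + z + 1) * 0
    linear_combination (-(0 : K)) * hz + (-(0 : K)) * h2
  | 7, 1 => by
    show ((z * z + z + 1) : K) = (z * z + z + 1) * 1
    linear_combination (-(0 : K)) * hz + (-(0 : K)) * h2
  | 7, 2 => by
    show ((z * z + 1) : K) = (z * z + z + 1) * z
    linear_combination (-((1 : K))) * hz + (-((1 : K) * z)) * h2
  | 7, 3 => by
    show (z : K) = (z * z + z + 1) * (z + 1)
    linear_combination (-((1 : K))) * hz + (-((1 : K) + (1 : K) * z + (1 : K) * z * z)) * h2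
  | 7, 4 => by
    show (1 : K) = (z * z + z + 1) * (z * z)
    linear_combination (-((1 : K) + (1 : K) * z)) * hz + (-((1 : K) * z + (1 : K) * z * z)) * h2
  | 7, 5 => by
    show ((z * z + z) : K) = (z * z + z + 1) * (z * z + 1)
    linear_combination (-((1 : K) + (1 : K) * z)) * hz + (-((1 : K) + (1 : K) * z + (1 : K) * z * z)) * h2
  | 7, 6 => by
    show ((z * z) : K) = (z * z + z + 1) * (z * z + z)
    linear_combination (-((2 : K) + (1 : K) * z)) * hz + (-((1 : K) + (2 : K) * z + (1 : K) * z * z)) * h2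
  | 7, 7 => by
    show ((z + 1) : K) = (z * z + z + 1) * (z * z + z + 1)
    linear_combination (-((2 : K) + (1 : K) * z)) * hz + (-((1 : K) + (2 : K) * z + (2 : K) * z * z)) * h2

theorem toK_mul (hz : IsZeta z) {a b : ℕ} (ha : a < 8) (hb : b < 8) : toK z (mulE a b) = toK z a * toK z b :=
  toK_mul' hz ⟨a, ha⟩ ⟨b, hb⟩

theorem toK_injective (hz : IsZeta z) : ∀ a : Fin 8, toK z a = 0 → (a : ℕ) = 0 := by
  intro a h
  by_contra ha
  obtain ⟨b, hb⟩ : ∃ b : Fin 8, mulE a b = 1 :=
    (show ∀ a : Fin 8, (a : ℕ) ≠ 0 → ∃ b : Fin 8, mulE a b = 1 by decide +kernel) a ha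
  have e := toK_mul' hz a b
  rw [hb, h, zero_mul] at e
  exact one_ne_zero e

/-- The matrix with a given packing. -/
def toM8 (z : K) (A : ℕ) : Matrix I8 I8 K := Matrix.of fun i j => toK z (ge A (cd i) (cd j))

theorem toM8_add (A B : ℕ) : toM8 z (addP A B) = toM8 z A + toM8 z B := by
  ext i j
  show toK z _ = toK z _ + toK z _
  rw [ge_addP, toK_add (ge_lt ..) (ge_lt ..)]

theorem toK_sum8 {f : ℕ → ℕ} (h : ∀ k, f k < 8) : toK z (sum8 f) = ∑ k : Fin 8, toK z (f k) := by
  rw [sum8, toK_add (addE_lt (addE_lt (h _) (h _)) (addE_lt (h _) (h _)))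
      (addE_lt (addE_lt (h _) (h _)) (addE_lt (h _) (h _))),
    toK_add (addE_lt (h _) (h _)) (addE_lt (h _) (h _)), toK_add (addE_lt (h _) (h _)) (addE_lt (h _) (h _)),
    toK_add (h _) (h _), toK_add (h _) (h _), toK_add (h _) (h _), toK_add (h _) (h _), Fin.sum_univ_eight]
  simp only [Fin.val_zero, Fin.val_one, Fin.val_two, add_assoc]
  rfl

theorem sum_I8 (f : ℕ → K) : ∑ a : I8, f (cd a) = ∑ k : Fin 8, f k := by
  rw [Fintype.sum_sum_type, Fin.sum_univ_four, Fin.sum_univ_four, Fin.sum_univ_eight]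
  simp only [cd, add_assoc]
  rfl

theorem toM8_mul (hz : IsZeta z) (A B : ℕ) : toM8 z (mulP A B) = toM8 z A * toM8 z B := by
  ext i j
  rw [Matrix.mul_apply]
  show toK z _ = ∑ k, toK z _ * toK z _
  rw [ge_mulP A B (cd_lt i) (cd_lt j), mulAt, toK_sum8 (fun _ => mulE_lt _ _),
    sum_I8 (fun k => toK z (ge A (cd i) k) * toK z (ge B k (cd j)))]
  exact Finset.sum_congr rfl fun k _ => toK_mul hz (ge_lt ..) (ge_lt ..)

theorem toM8_one : toM8 z oneP = 1 := by
  ext i j
  have h := ge_oneP ⟨cd i, cd_lt i⟩ ⟨cd j, cd_lt j⟩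
  simp only [Fin.mk.injEq] at h
  show toK z (ge oneP (cd i) (cd j)) = (1 : Matrix I8 I8 K) i j
  rw [h, Matrix.one_apply]
  by_cases e : i = j
  · simp [e, toK]
  · simp [e, cd_injective.ne e, toK]

theorem toM8_zero : toM8 z 0 = 0 := by
  ext i j
  show toK z (Nat.land (Nat.shiftRight 0 _) 7) = 0
  rw [show Nat.land (Nat.shiftRight 0 (3 * (8 * cd i + cd j))) 7 = 0 from by
    show (0 >>> _) &&& 7 = 0
    simp]
  rfl

theorem ge_eq_zero_of_toK (hz : IsZeta z) {A i j : ℕ} (h : toK z (ge A i j) = 0) : ge A i j = 0 :=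
  toK_injective hz ⟨_, ge_lt A i j⟩ h

end Cfsg.Lib.TriSpec
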