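import Cfsg.Agent.Lib.TriSpec.Frame

/-!
The orders of the elements whose norm on the natural module does not vanish.
-/

set_option autoImplicit false
set_option maxRecDepth 100000

namespace Cfsg.Lib.TriSpec

open Cfsg.Lib.Chev.D4Orth Matrix Module

variable {K : Type*} [Field K] [CharP K 2] {z : K} {G : Type*} [Group G] (ψ : G →* GL I8 K)

theorem toM8_add3 (A B C : ℕ) : toM8 z (addP (addP A B) C) = toM8 z A + toM8 z B + toM8 z C := by
  rw [toM8_add, toM8_add]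

theorem nrm_three (M : Matrix I8 I8 K) : nrm M 3 = 1 + M + M * M := by
  simp [nrm, Finset.sum_range_succ, pow_two]

theorem nrm_nine (M : Matrix I8 I8 K) : nrm M 9 = nrm (M ^ 3) 3 * nrm M 3 := nrm_mul_dec M 3 3

theorem keyP_pack (l : List ℕ) (hl : l.length = 64) (h : ∀ a ∈ l, a < 8) : keyP (pack l) = l := by
  refine List.ext_getElem (by simp [keyP, hl]) fun k h1 h2 => ?_
  have hk : k < 64 := hl ▸ h2
  simp only [keyP, List.getElem_map, List.getElem_range, ge]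
  rw [show 8 * (k / 8) + k % 8 = k by omega, pack_get l h k h2, List.getD_eq_getElem _ _ h2]

theorem packed_mulP (A B : ℕ) : chkPacked (mulP A B) = true := by
  rw [chkPacked, mulP, keyP_pack _ (by simp) (by
    intro a ha
    obtain ⟨k, -, rfl⟩ := List.mem_map.1 ha
    exact sum8_lt fun _ => mulE_lt _ _)]
  exact Nat.beq_refl _

theorem packed_one : chkPacked oneP = true := by decide +kernel

theorem pow_of_chkPow (hz : IsZeta z) {g : G} {a : ℕ} (hg : mat ψ g = toM8 z a) {pw : List ℕ} {o : ℕ}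
    (h : chkPow a pw o = true) : ∀ i ≤ o, mat ψ g ^ i = toM8 z (pw.getD i 0) := by
  simp only [chkPow, Bool.and_eq_true, List.all_eq_true, List.mem_range, Nat.beq_eq] at h
  intro i
  induction i with
  | zero => exact fun _ => by rw [pow_zero, h.1.1.2, toM8_one]
  | succ i ih => exact fun hi => by rw [pow_succ, ih (by omega), hg, ← toM8_mul hz, (h.2 i (by omega)).1]

theorem orderOf_of_chkPow (hψ : Function.Injective ψ) (hz : IsZeta z) {g : G} {a : ℕ} (hg : mat ψ g = toM8 z a)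
    {pw : List ℕ} {o : ℕ} (h : chkPow a pw o = true) (ho : 0 < o) : orderOf g = o := by
  have hp := pow_of_chkPow ψ hz hg h
  simp only [chkPow, Bool.and_eq_true, List.all_eq_true, List.mem_range, Nat.beq_eq, Bool.or_eq_true,
    Bool.not_eq_true'] at h
  refine (orderOf_eq_iff ho).2 ⟨mat_injective ψ hψ ?_, fun m hm hm0 e => ?_⟩
  · rw [mat_pow, hp o le_rfl, h.1.2, toM8_one, mat_one]
  · have e1 : toM8 z (pw.getD m 0) = toM8 z oneP := by rw [← hp m hm.le, ← mat_pow, e, mat_one, toM8_one]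
    have hmk : m - 1 + 1 = m := by omega
    have hpk : chkPacked (pw.getD m 0) = true := by
      have h1 := (h.2 (m - 1) (by omega)).1
      rw [hmk] at h1
      exact h1 ▸ packed_mulP _ _
    have e2 := keyP_of_toM8 hz hpk packed_one e1
    rcases (h.2 m hm).2 with e3 | e3
    · omega
    · rw [e2, Nat.beq_refl] at e3
      exact Bool.noConfusion e3

/-- What is known about an element of order a power of three. -/
theorem three_facts [Finite G] (hψ : Function.Injective ψ) (hz : IsZeta z) (hgen : GenOK ψ z)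
    (hcard : (Nat.card G).factorization 3 = 4) :
    ∃ S : Subgroup G, Nat.card S = 3 ^ 4 ∧ ∀ x ∈ S, x ≠ 1 →
      (x ^ 9 = 1 ∧ x ^ 3 ≠ 1 ∧ nrm (mat ψ x) 9 = 0) ∨
      (x ^ 3 = 1 ∧ finrank K (rg (nrm (mat ψ x) 3)) ≤ 4 ∧
        (finrank K (rg (nrm (mat ψ x) 3)) ≤ 2 ∨ finrank K (rg (1 + nrm (mat ψ x) 3)) ≤ 4)) := by
  have hw := words_ok
  simp only [Bool.and_eq_true] at hw
  obtain ⟨g, hg⟩ := exists_word ψ hz hgen hw.1.1.1.1.1.1.1
  obtain ⟨h, hh⟩ := exists_word ψ hz hgen hw.1.1.1.1.1.1.2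
  have hlen : threeEls.length = 81 := by decide +kernel
  obtain ⟨S, hS, hel⟩ := exists_subgroup ψ hψ hz hg hh (by rw [hlen]; omega) three_closed
  refine ⟨S, by rw [hS, hlen]; rfl, fun x hx hx1 => ?_⟩
  obtain ⟨i, hi, he⟩ := hel x hx
  rw [hlen] at hi
  have h0 : threeEls.getD 0 0 = oneP := by decide +kernel
  have hi0 : i ≠ 0 := fun e => hx1 (mat_injective ψ hψ (by rw [he, e, h0, toM8_one, mat_one]))
  have hc := three_cert
  simp only [List.all_eq_true, List.mem_range] at hc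
  have hc := hc (i - 1) (by omega)
  rw [show i - 1 + 1 = i by omega] at hc
  generalize threeEls.getD i 0 = a at he hc
  generalize threeCert.getD (i - 1) [] = c at hc
  unfold chkThree at hc
  split at hc
  · rename_i x2 x3 x6 e3
    simp only [Bool.and_eq_true, Bool.not_eq_true', Nat.beq_eq] at hc
    obtain ⟨⟨⟨⟨⟨⟨h2, h3⟩, h6⟩, h9⟩, hne⟩, he3⟩, hz0⟩ := hc
    have p3 : mat ψ (x ^ 3) = toM8 z x3 := by
      rw [mat_pow, he, pow_succ, pow_two, ← toM8_mul hz, h2, ← toM8_mul hz, h3]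
    have p9 : mat ψ (x ^ 9) = 1 := by
      rw [show x ^ 9 = x ^ 3 * x ^ 3 * x ^ 3 by rw [← pow_add, ← pow_add], mat_mul, mat_mul, p3, ← toM8_mul hz, h6,
        ← toM8_mul hz, h9, toM8_one]
    refine Or.inl ⟨mat_injective ψ hψ (p9.trans (mat_one ψ).symm), fun e => ?_, ?_⟩
    · have e1 : toM8 z x3 = toM8 z oneP := by rw [← p3, e, mat_one, toM8_one]
      exact absurd (keyP_of_toM8 hz (h3 ▸ packed_mulP x2 a) packed_one e1)
        (fun e2 => by simp [e2] at hne)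
    · have p3' : mat ψ x ^ 3 = toM8 z x3 := by rw [← mat_pow, p3]
      have hM : nrm (mat ψ x) 3 = toM8 z e3 := by
        rw [nrm_three, he, ← toM8_mul hz, h2, ← toM8_one (z := z), ← toM8_add3, ← he3]
      have hM3 : nrm (mat ψ x ^ 3) 3 = toM8 z (addP (addP oneP x3) x6) := by
        rw [nrm_three, p3', ← toM8_mul hz, h6, toM8_add3, toM8_one]
      rw [nrm_nine, (commute_nrm ((commute_nrm ((Commute.refl (mat ψ x)).pow_right 3) 3).symm) 3).eq, hM, hM3,
        ← toM8_mul hz, hz0, toM8_zero]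
  · rename_i x2 e k A B
    simp only [Bool.and_eq_true, Nat.beq_eq, Nat.ble_eq] at hc
    obtain ⟨⟨⟨⟨h2, h3⟩, he3⟩, hk⟩, hf⟩ := hc
    have p3 : mat ψ (x ^ 3) = 1 := by rw [mat_pow, he, pow_succ, pow_two, ← toM8_mul hz, h2, ← toM8_mul hz, h3, toM8_one]
    have hn : nrm (mat ψ x) 3 = toM8 z e := by
      rw [nrm_three, he, ← toM8_mul hz, h2, ← toM8_one (z := z), ← toM8_add3, he3]
    have hr := finrank_of_chkFactor hz (by omega) hf
    refine Or.inr ⟨mat_injective ψ hψ (p3.trans (mat_one ψ).symm), ?_, Or.inl ?_⟩ <;> rw [hn] <;> omega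
  · rename_i x2 e k A B A' B'
    simp only [Bool.and_eq_true, Nat.beq_eq] at hc
    obtain ⟨⟨⟨⟨⟨h2, h3⟩, he3⟩, -⟩, hf⟩, hf'⟩ := hc
    have p3 : mat ψ (x ^ 3) = 1 := by rw [mat_pow, he, pow_succ, pow_two, ← toM8_mul hz, h2, ← toM8_mul hz, h3, toM8_one]
    have hn : nrm (mat ψ x) 3 = toM8 z e := by
      rw [nrm_three, he, ← toM8_mul hz, h2, ← toM8_one (z := z), ← toM8_add3, he3]
    refine Or.inr ⟨mat_injective ψ hψ (p3.trans (mat_one ψ).symm), ?_, Or.inr ?_⟩
    · rw [hn]; exact finrank_of_chkFactor hz (by omega) hf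
    · rw [hn, ← toM8_one (z := z), ← toM8_add]; exact finrank_of_chkFactor hz (by omega) hf'
  · simp at hc

theorem nrm_seven (M : Matrix I8 I8 K) :
    nrm M 7 = (1 + M + (M ^ 2 + M ^ 3)) + ((M ^ 4 + M ^ 5) + M ^ 6) := by
  simp only [nrm, Finset.sum_range_succ, Finset.sum_range_zero, pow_zero, pow_one, zero_add, add_assoc]

/-- What is known about an element of order seven. -/
theorem seven_facts [Finite G] (hψ : Function.Injective ψ) (hz : IsZeta z) (hgen : GenOK ψ z)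
    (hcard : (Nat.card G).factorization 7 = 2) :
    ∃ S : Subgroup G, Nat.card S = 7 ^ 2 ∧ ∀ x ∈ S, x ≠ 1 → x ^ 7 = 1 ∧ finrank K (rg (nrm (mat ψ x) 7)) ≤ 2 ∧
      (nrm (mat ψ x) 7 = 0 ∨ ∃ v : I8 → K, ∀ w : I8 → K, (mat ψ x + 1) *ᵥ w ∈
        Submodule.span K (Set.range fun i : Fin 6 => (mat ψ x ^ (i : ℕ) * (mat ψ x + 1)) *ᵥ v)) := by
  have hw := words_ok
  simp only [Bool.and_eq_true] at hw
  obtain ⟨g, hg⟩ := exists_word ψ hz hgen hw.1.1.1.1.1.2
  obtain ⟨h, hh⟩ := exists_word ψ hz hgen hw.1.1.1.1.2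
  have hlen : sevenEls.length = 49 := by decide +kernel
  obtain ⟨S, hS, hel⟩ := exists_subgroup ψ hψ hz hg hh (by rw [hlen]; omega) seven_closed
  refine ⟨S, by rw [hS, hlen]; rfl, fun x hx hx1 => ?_⟩
  obtain ⟨i, hi, he⟩ := hel x hx
  rw [hlen] at hi
  have h0 : sevenEls.getD 0 0 = oneP := by decide +kernel
  have hi0 : i ≠ 0 := fun e => hx1 (mat_injective ψ hψ (by rw [he, e, h0, toM8_one, mat_one]))
  have hc := seven_cert
  simp only [List.all_eq_true, List.mem_range] at hc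
  have hc := hc (i - 1) (by omega)
  rw [show i - 1 + 1 = i by omega] at hc
  generalize sevenEls.getD i 0 = a at he hc
  generalize sevenCert.getD (i - 1) [] = c at hc
  have hpows : ∀ {x2 x3 x4 x5 x6 : ℕ}, chkPowSeven a x2 x3 x4 x5 x6 = true →
      mat ψ x ^ 2 = toM8 z x2 ∧ mat ψ x ^ 3 = toM8 z x3 ∧ mat ψ x ^ 4 = toM8 z x4 ∧ mat ψ x ^ 5 = toM8 z x5 ∧
        mat ψ x ^ 6 = toM8 z x6 ∧ x ^ 7 = 1 ∧ nrm (mat ψ x) 7 = toM8 z (sumSeven a x2 x3 x4 x5 x6) := by
    intro x2 x3 x4 x5 x6 h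
    simp only [chkPowSeven, Bool.and_eq_true, Nat.beq_eq] at h
    obtain ⟨⟨⟨⟨⟨h2, h3⟩, h4⟩, h5⟩, h6⟩, h7⟩ := h
    have p2 : mat ψ x ^ 2 = toM8 z x2 := by rw [pow_two, he, ← toM8_mul hz, h2]
    have p3 : mat ψ x ^ 3 = toM8 z x3 := by rw [pow_succ, p2, he, ← toM8_mul hz, h3]
    have p4 : mat ψ x ^ 4 = toM8 z x4 := by rw [pow_succ, p3, he, ← toM8_mul hz, h4]
    have p5 : mat ψ x ^ 5 = toM8 z x5 := by rw [pow_succ, p4, he, ← toM8_mul hz, h5]
    have p6 : mat ψ x ^ 6 = toM8 z x6 := by rw [pow_succ, p5, he, ← toM8_mul hz, h6]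
    refine ⟨p2, p3, p4, p5, p6, mat_injective ψ hψ ?_, ?_⟩
    · rw [mat_pow, pow_succ, p6, he, ← toM8_mul hz, h7, toM8_one, mat_one]
    · rw [nrm_seven, p2, p3, p4, p5, p6, he]
      simp only [sumSeven, toM8_add, toM8_one]
  unfold chkSeven at hc
  split at hc
  · rename_i x2 x3 x4 x5 x6
    simp only [Bool.and_eq_true, Nat.beq_eq] at hc
    obtain ⟨-, -, -, -, -, h7, hn⟩ := hpows hc.1
    have hn0 : nrm (mat ψ x) 7 = 0 := by rw [hn, hc.2, toM8_zero]
    refine ⟨h7, ?_, Or.inl hn0⟩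
    rw [hn0, rg, Matrix.mulVecLin_zero, LinearMap.range_zero, finrank_bot]
    exact Nat.zero_le _
  · rename_i x2 x3 x4 x5 x6 A B V W T C W1 W2 W3 W4 W5
    simp only [Bool.and_eq_true, Nat.beq_eq, List.all_eq_true, List.mem_range] at hc
    obtain ⟨⟨⟨⟨⟨⟨⟨⟨⟨hp, hf⟩, hW⟩, h1⟩, h2⟩, h3⟩, h4⟩, h5⟩, hT⟩, hC⟩ := hc
    obtain ⟨p2, p3, p4, p5, -, h7, hn⟩ := hpows hp
    refine ⟨h7, hn ▸ finrank_of_chkFactor hz (by omega) hf, Or.inr ⟨fun r => toK z (ge V (cd r) 0), fun w => ?_⟩⟩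
    have hxz : mat ψ x + 1 = toM8 z (addP oneP a) := by rw [toM8_add, toM8_one, he, add_comm]
    have hcol : ∀ (B' : ℕ), toM8 z B' *ᵥ (Pi.single (Sum.inl 0) 1 : I8 → K) = fun r => toK z (ge B' (cd r) 0) := by
      intro B'
      funext r
      simp only [Matrix.mulVec_single_one, Matrix.col_apply, toM8, Matrix.of_apply]
      rfl
    have hv : (fun r => toK z (ge V (cd r) 0)) = toM8 z V *ᵥ (Pi.single (Sum.inl 0) 1 : I8 → K) := (hcol V).symm
    have hWi : ∀ (i : ℕ) (Wi : ℕ), mat ψ x ^ i * toM8 z W = toM8 z Wi →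
        (mat ψ x ^ i * (mat ψ x + 1)) *ᵥ (fun r => toK z (ge V (cd r) 0)) = fun r => toK z (ge Wi (cd r) 0) := by
      intro i Wi h
      rw [hv, hxz, Matrix.mulVec_mulVec, mul_assoc, ← toM8_mul hz, hW, h, hcol]
    have hw0 := hWi 0 W (by rw [pow_zero, one_mul])
    have hw1 := hWi 1 W1 (by rw [pow_one, he, ← toM8_mul hz, h1])
    have hw2 := hWi 2 W2 (by rw [p2, ← toM8_mul hz, h2])
    have hw3 := hWi 3 W3 (by rw [p3, ← toM8_mul hz, h3])
    have hw4 := hWi 4 W4 (by rw [p4, ← toM8_mul hz, h4])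
    have hw5 := hWi 5 W5 (by rw [p5, ← toM8_mul hz, h5])
    rw [show (mat ψ x + 1) *ᵥ w = toM8 z T *ᵥ (toM8 z C *ᵥ w) by rw [hxz, ← hC, toM8_mul hz, Matrix.mulVec_mulVec]]
    generalize toM8 z C *ᵥ w = u
    rw [Matrix.mulVec_eq_sum]
    refine Submodule.sum_mem _ fun t _ => ?_
    simp only [op_smul_eq_smul]
    refine Submodule.smul_mem _ _ ?_
    have hTt : ∀ (r : I8), (T, t, r).1 = T ∧ (toM8 z T)ᵀ t r = toK z (ge T (cd r) (cd t)) := fun r => ⟨rfl, rfl⟩
    have hrow : ∀ r : I8, _ := fun r => hT (cd r) (cd_lt r)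
    by_cases ht6 : cd t < 6
    · refine Submodule.subset_span ⟨⟨cd t, ht6⟩, ?_⟩
      funext r
      rw [(hTt r).2]
      obtain ⟨⟨⟨⟨⟨⟨⟨q0, q1⟩, q2⟩, q3⟩, q4⟩, q5⟩, -⟩, -⟩ := hrow r
      rcases (by omega : cd t = 0 ∨ cd t = 1 ∨ cd t = 2 ∨ cd t = 3 ∨ cd t = 4 ∨ cd t = 5) with e | e | e | e | e | e <;>
        simp only [e]
      · rw [q0]; exact congrFun hw0 r
      · rw [q1]; exact congrFun hw1 r
      · rw [q2]; exact congrFun hw2 r
      · rw [q3]; exact congrFun hw3 r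
      · rw [q4]; exact congrFun hw4 r
      · rw [q5]; exact congrFun hw5 r
    · have h0' : (toM8 z T)ᵀ t = 0 := by
        funext r
        rw [(hTt r).2]
        obtain ⟨⟨-, q6⟩, q7⟩ := hrow r
        rcases (by have := cd_lt t; omega : cd t = 6 ∨ cd t = 7) with e | e <;> rw [e]
        · rw [q6]; rfl
        · rw [q7]; rfl
      rw [h0']; exact Submodule.zero_mem _
  · simp at hc

/-- The norm of an element of order thirteen. -/
theorem thirteen_facts (hψ : Function.Injective ψ) (hz : IsZeta z) (hgen : GenOK ψ z) :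
    ∃ x : G, orderOf x = 13 ∧ nrm (mat ψ x) 13 = 0 := by
  have hw := words_ok
  simp only [Bool.and_eq_true] at hw
  obtain ⟨g, hg⟩ := exists_word ψ hz hgen hw.1.1.1.2
  have hp := pow_ok
  simp only [Bool.and_eq_true] at hp
  refine ⟨g, ?_, ?_⟩
  · exact orderOf_of_chkPow ψ hψ hz hg hp.1.2 (by omega)
  · have hsum : ∀ i < 13, mat ψ g ^ i = toM8 z (powThirteen.getD i 0) := fun i hi =>
      pow_of_chkPow ψ hz hg hp.1.2 i (by omega)
    have e := Nat.eq_of_beq_eq_true hp.2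
    have hs : nrm (mat ψ g) 13 = toM8 z ((powThirteen.take 13).foldr addP 0) := by
      rw [nrm, Finset.sum_congr rfl fun i hi => hsum i (Finset.mem_range.1 hi)]
      have hlist : powThirteen.take 13 = (List.range 13).map fun i => powThirteen.getD i 0 := by decide +kernel
      rw [hlist, List.foldr_map]
      simp only [Finset.sum_range_succ, Finset.sum_range_zero, show List.range 13 = [0, 1, 2, 3, 4, 5, 6, 7, 8, 9, 10,
        11, 12] from rfl, List.foldr_cons, List.foldr_nil, toM8_add, toM8_zero, add_zero, zero_add, add_assoc]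
    rw [hs, e, toM8_zero]

end Cfsg.Lib.TriSpec
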