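import Cfsg.Agent.Lib.Chev.D4Equiv
import Cfsg.Agent.Lib.Chev.TwD4
import Cfsg.Agent.Lib.Chev.TwBNTools

/-!
The natural eight-dimensional module of ³D₄(q) in characteristic two.
-/

set_option autoImplicit false
set_option maxRecDepth 100000

namespace Cfsg.Lib.TriSpec

open Cfsg.Lie Cfsg.Lib.Chev Cfsg.Lib.Chev.D4Orth Matrix

variable {K : Type*} [Field K]

/-- A root element on the natural module. -/
noncomputable def rootNat (r : ℕ) (t : K) : Matrix I8 I8 K := 1 + t • mM K (d4L r)

/-- Products of three root matrices giving the matrix units. -/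
def unitTab : List (List ℕ) :=
  [[18, 14, 4], [18, 14, 9], [18, 5, 19], [18, 5, 21], [18, 14, 22], [18, 5, 23], [18, 5, 22], [18, 5, 20], [5, 19, 4], [5, 19, 9], [5, 18, 14], [5, 18, 16], [5, 18, 23], [5, 19, 17], [5, 18, 17], [5, 18, 15], [4, 18, 5], [4, 19, 9], [4, 18, 14], [4, 18, 16], [4, 18, 23], [4, 19, 17], [4, 18, 17], [4, 18, 15], [2, 18, 5], [2, 19, 9], [2, 18, 14], [2, 18, 16], [2, 18, 23], [2, 19, 17], [2, 18, 17], [2, 18, 15], [0, 14, 4], [0, 5, 18], [0, 5, 19], [0, 5, 21], [0, 14, 22], [0, 5, 23], [0, 5, 22], [0, 5, 20], [0, 18, 5], [0, 19, 9], [0, 18, 14], [0, 18, 16], [0, 18, 23], [0, 19, 17], [0, 18, 17], [0, 18, 15], [1, 18, 5], [1, 19, 9], [1, 18, 14], [1, 18, 16], [1, 18, 23], [1, 19, 17], [1, 18, 17], [1, 18, 15], [3, 18, 5], [3, 19, 9], [3, 18, 14], [3, 18, 16], [3, 18, 23], [3, 19, 17], [3, 18, 17], [3, 18, 15]]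

/-- The product of the listed root matrices. -/
def unitL (k : ℕ) : List (ℕ × ℕ × ℤ) :=
  smulL (smulL (d4L ((unitTab.getD k []).getD 0 0)) (d4L ((unitTab.getD k []).getD 1 0)))
    (d4L ((unitTab.getD k []).getD 2 0))

theorem unit_prod : ∀ a b : Fin 8,
    eqL (unitL (8 * (a : ℕ) + b)) [((a : ℕ), (b : ℕ), 1)] = true ∨
      eqL (unitL (8 * (a : ℕ) + b)) [((a : ℕ), (b : ℕ), -1)] = true := by
  decide +kernel

theorem unitTab_lt : ∀ k : Fin 64, ∀ i : Fin 3, (unitTab.getD (k : ℕ) []).getD (i : ℕ) 0 < 24 := by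
  decide +kernel

/-- A matrix commuting with all root matrices is scalar. -/
theorem commute_unit {z : Matrix I8 I8 K} (hz : ∀ r < 24, Commute z (mM K (d4L r))) (a b : I8) :
    Commute z (Matrix.single a b (1 : K)) := by
  have hs : ∀ c : ℤ, mM K [(cd a, cd b, c)] = Matrix.single a b (c : K) := fun c => by
    ext x y
    show ((ent [(cd a, cd b, c)] (cd x) (cd y) : ℤ) : K) = _
    simp [ent, Matrix.single, Matrix.of_apply, cd_injective.eq_iff]
  have key : ∀ l, Commute z (mM K l) →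
      (eqL l [(cd a, cd b, 1)] = true ∨ eqL l [(cd a, cd b, -1)] = true) →
      Commute z (Matrix.single a b (1 : K)) := by
    intro l hl h
    rcases h with e | e <;> have e' := congrArg (Int.castRingHom K).mapMatrix (toM_of_eqL e)
    · have := hl
      rw [show mM K l = mM K [(cd a, cd b, 1)] from e', hs] at this
      simpa using this
    · have := hl
      rw [show mM K l = mM K [(cd a, cd b, -1)] from e', hs] at this
      simpa [← Matrix.single_neg] using this.neg_right
  have hok : ∀ r : Fin 24, okL (d4L r) = true := by decide +kernel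
  have hmul : ∀ l l', okL l = true → mM K (smulL l l') = mM K l * mM K l' := fun l l' hl => by
    rw [mM, mM, mM, ← map_mul, toM_mul hl]
  have hk : 8 * cd a + cd b < 64 := by have := cd_lt a; have := cd_lt b; omega
  have h3 : ∀ i : Fin 3, (unitTab.getD (8 * cd a + cd b) []).getD (i : ℕ) 0 < 24 :=
    fun i => unitTab_lt ⟨_, hk⟩ i
  have h0 : ((unitTab.getD (8 * cd a + cd b) []).getD 0 0) < 24 := h3 0
  have h1 : ((unitTab.getD (8 * cd a + cd b) []).getD 1 0) < 24 := h3 1
  have h2 : ((unitTab.getD (8 * cd a + cd b) []).getD 2 0) < 24 := h3 2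
  refine key (unitL (8 * cd a + cd b)) ?_ (unit_prod ⟨cd a, cd_lt a⟩ ⟨cd b, cd_lt b⟩)
  rw [unitL, hmul _ _ (okL_smulL (hok ⟨_, h1⟩)), hmul _ _ (hok ⟨_, h0⟩)]
  exact ((hz _ h0).mul_right (hz _ h1)).mul_right (hz _ h2)

variable [CharP K 2]

theorem scalar_isom {z : GL I8 K} (hz : ∀ r < 24, Commute (z : Matrix I8 I8 K) (mM K (d4L r)))
    (hi : z ∈ Cfsg.isometryGroup K (Cfsg.quadFormPlus 4 K)) : z = 1 := by
  have h := commute_unit hz
  set c := (z : Matrix I8 I8 K) (Sum.inl 0) (Sum.inl 0) with hc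
  have hd : (z : Matrix I8 I8 K) = c • (1 : Matrix I8 I8 K) := by
    ext a b
    have e := congrFun (congrFun (h b (Sum.inl 0)).eq a) (Sum.inl 0)
    rw [Matrix.mul_apply, Matrix.mul_apply] at e
    simp only [Matrix.single, Matrix.of_apply] at e
    rcases eq_or_ne a b with rfl | hab
    · simpa [hc] using e
    · simpa [hab, Ne.symm hab] using e
  have hq := mem_isom.1 hi (fun i => if i = Sum.inl 0 ∨ i = Sum.inr 0 then 1 else 0)
  rw [hd, Matrix.smul_mulVec, Matrix.one_mulVec] at hq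
  have hcc : c * c = 1 := by
    simpa [Cfsg.quadFormPlus, Fin.sum_univ_four] using hq
  have hc1 : c = 1 := by
    have : (c - 1) * (c - 1) = 0 := by
      have h2 : (2 : K) = 0 := CharTwo.two_eq_zero
      linear_combination hcc - (c - 1) * h2
    exact sub_eq_zero.1 (mul_self_eq_zero.1 this)
  exact Units.ext (by rw [hd, hc1, one_smul]; rfl)

/-- The natural representation of the Chevalley group. -/
theorem exists_natural : ∃ Φ : ↥(chevD4.group K) →* GL I8 K, ∀ (r : ℕ), r < 24 → ∀ (t : K) (g : ↥(chevD4.group K)),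
    (g : GL chevD4.Idx K) = xg certD4C r t → (Φ g : Matrix I8 I8 K) = rootNat r t := by
  let C := fullCertD4.comm.cert
  let π := (stHom C fullCertD4.comm (F := K))
  have hπ : ∀ r < chevD4.nroots, ∀ t, π (chevD4.stGen K r t) = xg C r t := fun r hr t =>
    stHom_gen C fullCertD4.comm hr t
  let π' : chevD4.SteinbergGroup K →* ↥(chevD4.group K) :=
    π.codRestrict _ fun g => (stHom_range C fullCertD4 π hπ).le ⟨g, rfl⟩
  have hsurj : Function.Surjective π' := fun y => by
    obtain ⟨g, hg⟩ := (stHom_range C fullCertD4 π hπ).ge y.2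
    exact ⟨g, Subtype.ext hg⟩
  let ρ : chevD4.SteinbergGroup K →* GL I8 K := MatRep.repHom repOK_D4
  have hρ : ∀ (r : ℕ), r < 24 → ∀ t, (ρ (chevD4.stGen K r t) : Matrix I8 I8 K) = rootNat r t :=
    fun r hr t => MatRep.repHom_gen repOK_D4 hr t
  have hker : π'.ker ≤ ρ.ker := fun g hg => by
    have hg' : π g = 1 := congrArg Subtype.val hg
    have hc := (st_ker_le C fullCertD4 (by decide +kernel) π hπ hg').2
    refine scalar_isom (fun r hr => ?_) (rootGrp_le ⟨g, rfl⟩)
    have e := congrArg (fun x => ((ρ x : GL I8 K) : Matrix I8 I8 K))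
      (Subgroup.mem_center_iff.1 hc (chevD4.stGen K r 1))
    simp only [map_mul, Units.val_mul, hρ r hr, rootNat, one_smul, add_mul, mul_add, one_mul, mul_one] at e
    exact ((add_right_inj _).1 e).symm
  refine ⟨π'.liftOfSurjective hsurj ⟨ρ, hker⟩, fun r hr t g hg => ?_⟩
  have e : g = π' (chevD4.stGen K r t) := Subtype.ext (hg.trans (hπ r hr t).symm)
  rw [e, MonoidHom.liftOfRightInverse_comp_apply]
  exact hρ r hr t

end Cfsg.Lib.TriSpec
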