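import Cfsg.Agent.Lib.TriSpec.Classify
import Cfsg.Agent.Lib.TriSpec.Gens

/-!
Split extensions of ³D₄(2) by copies of the natural module with the same element orders.
-/

set_option autoImplicit false
set_option maxRecDepth 100000

namespace Cfsg.Lib.TriSpec

open Cfsg.Lib.Chev.D4Orth Matrix

variable {K : Type*} [Field K] [CharP K 2] {G : Type*} [Group G] (ψ : G →* GL I8 K) (k : ℕ)

/-- Copies of the natural module. -/
abbrev Mods (K : Type*) (k : ℕ) : Type _ := Multiplicative (Fin k → I8 → K)

/-- The action on the copies. -/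
def modAct : G →* MulAut (Mods K k) where
  toFun g :=
    { toFun := fun v => Multiplicative.ofAdd fun i => mat ψ g *ᵥ (Multiplicative.toAdd v i)
      invFun := fun v => Multiplicative.ofAdd fun i => mat ψ g⁻¹ *ᵥ (Multiplicative.toAdd v i)
      left_inv := fun v => by
        apply Multiplicative.toAdd.injective
        funext i
        simp [Matrix.mulVec_mulVec, ← mat_mul, mat_one]
      right_inv := fun v => by
        apply Multiplicative.toAdd.injective
        funext i
        simp [Matrix.mulVec_mulVec, ← mat_mul, mat_one]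
      map_mul' := fun v w => by
        apply Multiplicative.toAdd.injective
        funext i
        simp [Matrix.mulVec_add] }
  map_one' := MulEquiv.ext fun v => by
    apply Multiplicative.toAdd.injective
    funext i
    simp [mat_one]
  map_mul' g h := MulEquiv.ext fun v => by
    apply Multiplicative.toAdd.injective
    funext i
    simp [mat_mul, Matrix.mulVec_mulVec]

theorem pow_left (x : Mods K k ⋊[modAct ψ k] G) : ∀ (n : ℕ) (i : Fin k),
    Multiplicative.toAdd (x ^ n).left i = nrm (mat ψ x.right) n *ᵥ Multiplicative.toAdd x.left i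
  | 0, i => by simp [nrm]
  | n + 1, i => by
    rw [pow_succ', SemidirectProduct.mul_left]
    show Multiplicative.toAdd x.left i + mat ψ x.right *ᵥ Multiplicative.toAdd (x ^ n).left i = _
    rw [pow_left x n i, Matrix.mulVec_mulVec, nrm, nrm, Finset.sum_range_succ' (fun i => mat ψ x.right ^ i) n,
      Finset.mul_sum, pow_zero, Matrix.add_mulVec, Matrix.one_mulVec, add_comm]
    simp only [pow_succ']

theorem orders_eq [Finite G] (S : Set ℕ) (h : ∀ g : G, nrm (mat ψ g) (orderOf g) = 0 ∨ orderOf g ∈ S)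
    (hS : ∀ o ∈ S, ∃ g : G, orderOf g = 2 * o) :
    Set.range (orderOf : Mods K k ⋊[modAct ψ k] G → ℕ) = Set.range (orderOf : G → ℕ) := by
  refine Set.Subset.antisymm ?_ ?_
  · rintro _ ⟨x, rfl⟩
    set o := orderOf x.right with ho
    have hd : o ∣ orderOf x := orderOf_map_dvd SemidirectProduct.rightHom x
    have hr : ∀ n, (x ^ n).right = x.right ^ n := fun n => map_pow SemidirectProduct.rightHom x n
    have hsq : x ^ (2 * o) = 1 := by
      have h1 : (x ^ o).right = 1 := by rw [hr, ho, pow_orderOf_eq_one]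
      rw [mul_comm, pow_mul, sq]
      refine SemidirectProduct.ext ?_ (by rw [SemidirectProduct.mul_right, h1, one_mul]; rfl)
      rw [SemidirectProduct.mul_left, h1, map_one]
      apply Multiplicative.toAdd.injective
      funext i j
      exact CharTwo.add_self_eq_zero _
    rcases h x.right with hn | hn
    · have h1 : x ^ o = 1 := by
        refine SemidirectProduct.ext ?_ (by rw [hr, ho, pow_orderOf_eq_one]; rfl)
        apply Multiplicative.toAdd.injective
        funext i
        rw [pow_left, ho, hn, Matrix.zero_mulVec]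
        rfl
      exact ⟨x.right, Nat.dvd_antisymm hd (orderOf_dvd_of_pow_eq_one h1)⟩
    · obtain ⟨c, hc⟩ := hd
      have ho0 : 0 < o := orderOf_pos _
      have hc2 : c ∣ 2 := by
        have := orderOf_dvd_of_pow_eq_one hsq
        rw [hc, mul_comm 2 o] at this
        exact Nat.dvd_of_mul_dvd_mul_left ho0 this
      rcases (Nat.dvd_prime Nat.prime_two).1 hc2 with rfl | rfl
      · exact ⟨x.right, by rw [hc, mul_one]⟩
      · obtain ⟨g, hg⟩ := hS o hn
        exact ⟨g, by rw [hc, hg, mul_comm]⟩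
  · rintro _ ⟨g, rfl⟩
    exact ⟨SemidirectProduct.inr g, orderOf_injective _ SemidirectProduct.inr_injective g⟩

theorem witnesses {z : K} [Finite G] (hψ : Function.Injective ψ) (hz : IsZeta z) (hgen : GenOK ψ z) :
    ∀ o ∈ ({1, 2, 3, 4, 6, 7, 14} : Set ℕ), ∃ g : G, orderOf g = 2 * o := by
  have hw := words_ok
  simp only [Bool.and_eq_true] at hw
  obtain ⟨a, ha⟩ := exists_word ψ hz hgen hw.1.1.2
  obtain ⟨b, hb⟩ := exists_word ψ hz hgen hw.1.2
  obtain ⟨c, hc⟩ := exists_word ψ hz hgen hw.2
  have hp := pow_ok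
  simp only [Bool.and_eq_true] at hp
  have e8 := orderOf_of_chkPow ψ hψ hz ha hp.1.1.1.1 (by omega)
  have e12 := orderOf_of_chkPow ψ hψ hz hb hp.1.1.1.2 (by omega)
  have e28 := orderOf_of_chkPow ψ hψ hz hc hp.1.1.2 (by omega)
  intro o ho
  simp only [Set.mem_insert_iff, Set.mem_singleton_iff] at ho
  rcases ho with rfl | rfl | rfl | rfl | rfl | rfl | rfl
  · exact ⟨a ^ 4, by rw [orderOf_pow' a (by norm_num), e8]; rfl⟩
  · exact ⟨a ^ 2, by rw [orderOf_pow' a (by norm_num), e8]; rfl⟩
  · exact ⟨b ^ 2, by rw [orderOf_pow' b (by norm_num), e12]; rfl⟩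
  · exact ⟨a, e8⟩
  · exact ⟨b, e12⟩
  · exact ⟨c ^ 2, by rw [orderOf_pow' c (by norm_num), e28]; rfl⟩
  · exact ⟨c, e28⟩

theorem lt_card_mods {F : Type*} [Finite F] [Nontrivial F] (N : ℕ) : N < Nat.card (Mods F N) := by
  rw [Nat.card_congr (Multiplicative.toAdd (α := Fin N → I8 → F)), Nat.card_fun, Nat.card_fin]
  exact Nat.lt_pow_self (Finite.one_lt_card)

/-- Moving a finite group into the lowest universe. -/
theorem exists_copy {H : Type*} [Group H] [Finite H] (N : ℕ) (hN : N < Nat.card H) :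
    ∃ (H' : Type) (_ : Group H') (_ : Fintype H'), N < Fintype.card H' ∧
      Set.range (orderOf : H' → ℕ) = Set.range (orderOf : H → ℕ) := by
  haveI : Small.{0} H := by
    obtain ⟨n, ⟨e⟩⟩ := Finite.exists_equiv_fin H
    exact ⟨⟨Fin n, ⟨e⟩⟩⟩
  haveI : Finite (Shrink.{0} H) := Finite.of_equiv H (equivShrink H)
  refine ⟨Shrink.{0} H, inferInstance, Fintype.ofFinite _, ?_, ?_⟩
  · rw [Fintype.card_eq_nat_card, Nat.card_congr (equivShrink H).symm]
    exact hN
  · let m : Shrink.{0} H ≃* H := Shrink.mulEquiv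
    ext o
    constructor
    · rintro ⟨x, rfl⟩; exact ⟨m x, MulEquiv.orderOf_eq m x⟩
    · rintro ⟨x, rfl⟩; exact ⟨m.symm x, MulEquiv.orderOf_eq m.symm x⟩

theorem lt_card_semi [Finite K] [Finite G] (N : ℕ) : N < Nat.card (Mods K N ⋊[modAct ψ N] G) := by
  haveI : Finite (Mods K N ⋊[modAct ψ N] G) := Finite.of_equiv _ SemidirectProduct.equivProd.symm
  exact lt_of_lt_of_le (lt_card_mods N)
    (Nat.card_le_card_of_injective _ SemidirectProduct.inl_injective)

theorem exists_isospectral [Finite K] [Finite G] (S : Set ℕ)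
    (h : ∀ g : G, nrm (mat ψ g) (orderOf g) = 0 ∨ orderOf g ∈ S)
    (hS : ∀ o ∈ S, ∃ g : G, orderOf g = 2 * o) (N : ℕ) :
    ∃ (H : Type) (_ : Group H) (_ : Fintype H), N < Fintype.card H ∧
      Set.range (orderOf : H → ℕ) = Set.range (orderOf : G → ℕ) := by
  haveI : Finite (Mods K N ⋊[modAct ψ N] G) := Finite.of_equiv _ SemidirectProduct.equivProd.symm
  obtain ⟨H, i1, i2, h1, h2⟩ := exists_copy N (lt_card_semi ψ N)
  exact ⟨H, i1, i2, h1, h2.trans (orders_eq ψ N S h hS)⟩

end Cfsg.Lib.TriSpec
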